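import Cfsg.Agent.Lib.KnownB.TypeM23Unique.Main

/-!
In type M(23) every member has ten members satisfying the relations of Fi23 over it.
-/

set_option autoImplicit false
set_option maxRecDepth 100000

namespace CfsgLib.KnownB.TypeM24.Unique

open Cfsg CfsgLib.ThreeTransp CfsgLib.Involutions
open CfsgLib.KnownB.TypeM22 CfsgLib.KnownB.TypeM22.Unique
open CfsgLib.KnownB.TypeM23 CfsgLib.KnownB.TypeM23.Unique
open CfsgLib.KnownB.Fi22Mult (edgeB val val_nil val_cons val_append)
open scoped commutatorElement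

universe u

variable {G : Type u} [Group G] {D : Set G}

/-- Ten members in the pattern over a member, with the long relations. -/
structure Ten (D : Set G) (d : G) (W : ℕ → G) : Prop where
  mem : ∀ i, i < 10 → W i ∈ D
  adj : ∀ i j, i < 10 → j < 10 → (Commute (W i) (W j) ↔ edgeC i j = false)
  nine : ∀ i, i < 9 → W i ∈ nb D d
  last : ¬ Commute d (W 9)
  alt : val W wordAlt = 1
  spider : val W spiderW = 1
  seven : val W wordSeven = d ∨ val W wordSeven = 1

variable [Finite G]

theorem exists_ten (S : Setting23 D) {d : G} (hd : d ∈ D) : ∃ W, Ten D d W := by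
  have hW := S.weak
  obtain ⟨x₀, hx, hn'⟩ := S.cls.exists_noncommute hd
  have hn : ¬ Commute d x₀ := fun e0 => hn' e0.symm
  obtain ⟨z, hzb, Z⟩ := exists_eight S hd hx hn
  have Z' : Eight (Dq D d) (fun i => qd D d (z i)) := ⟨fun i hi h6 => qd_mem (hzb i hi h6).1,
    fun i j hi hj hi6 hj6 => (S.qd_comm hd (hzb i hi hi6).1 (hzb j hj hj6).1).trans (Z.adj i j hi hj hi6 hj6)⟩
  obtain ⟨y, Y, hy⟩ := exists_nine (S.quot hd) Z'
  have hlift : ∀ i : Fin 9, ∃ w, w ∈ nb D d ∧ qd D d w = y i.val ∧ (i.val ≠ 6 → Both D d x₀ w) := by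
    intro i
    rcases eq_or_ne i.val 6 with h6 | h6
    · obtain ⟨w, hw, e⟩ := dq_exists (Y.mem i.val i.2)
      exact ⟨w, hw, e, fun h => absurd h6 h⟩
    · obtain ⟨k, hk, hk6, e⟩ := hy i.val i.2 h6
      exact ⟨z k, (hzb k hk hk6).1, e.symm, fun _ => hzb k hk hk6⟩
  choose w hw ew hwb using hlift
  obtain ⟨W, hWd⟩ : ∃ W : ℕ → G, W = fun i => if h : i < 9 then w ⟨i, h⟩ else x₀ := ⟨_, rfl⟩
  have Wi : ∀ i (h : i < 9), W i = w ⟨i, h⟩ := fun i h => by rw [hWd]; exact dif_pos h
  have W9 : W 9 = x₀ := by rw [hWd]; exact dif_neg (by norm_num)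
  have Wc : ∀ i, i < 9 → i ≠ 6 → Commute x₀ (W i) := fun i hi h6 => Wi i hi ▸ (hwb ⟨i, hi⟩ h6).2.2.2
  -- the ninth member is moved by the second
  have hg : ¬ Commute x₀ (W 6) := by
    intro hc
    obtain ⟨K, hK⟩ : ∃ K, K = Subgroup.closure (Set.range w) := ⟨_, rfl⟩
    have hKH : K ≤ Subgroup.closure (nb D d) := by
      rw [hK, Subgroup.closure_le]
      rintro _ ⟨i, rfl⟩
      exact mem_H (hw i)
    have hKx : K ≤ Subgroup.centralizer ({x₀} : Set G) := by
      rw [hK, Subgroup.closure_le]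
      rintro _ ⟨i, rfl⟩
      refine Subgroup.mem_centralizer_singleton_iff.2 ?_
      rcases eq_or_ne i.val 6 with h6 | h6
      · have : W 6 = w i := by
          rw [Wi 6 (by norm_num)]
          exact congrArg w (Fin.ext h6.symm)
        rw [← this]; exact hc.eq.symm
      · exact (hwb i h6).2.2.2.eq.symm
    have htop : (K.subgroupOf (Subgroup.closure (nb D d))).map (QuotientGroup.mk' (Subgroup.center ↥(Subgroup.closure (nb D d)))) = ⊤ := by
      refine nine_generate (S.quot hd) Y fun i hi => ?_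
      have hwK : w ⟨i, hi⟩ ∈ K := hK ▸ Subgroup.subset_closure ⟨_, rfl⟩
      exact ⟨⟨w ⟨i, hi⟩, hKH hwK⟩, hwK, (qd_mk _).symm.trans (ew ⟨i, hi⟩)⟩
    obtain ⟨K', hK'⟩ : ∃ K', K' = K.subgroupOf (Subgroup.closure (nb D d)) := ⟨_, rfl⟩
    have hdec : ∀ g : Subgroup.closure (nb D d), ∃ k ∈ K', k⁻¹ * g ∈ Subgroup.center _ := fun g => by
      obtain ⟨k, hk, e⟩ : QuotientGroup.mk' _ g ∈ K'.map (QuotientGroup.mk' (Subgroup.center ↥(Subgroup.closure (nb D d)))) := by
        rw [hK', htop]; exact Subgroup.mem_top _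
      exact ⟨k, hk, QuotientGroup.eq.1 e⟩
    have hle : commutator (Subgroup.closure (nb D d)) ≤ K' := by
      rw [commutator_def, Subgroup.commutator_le]
      intro g _ g' _
      obtain ⟨k, hk, hkc⟩ := hdec g
      obtain ⟨k', hk', hkc'⟩ := hdec g'
      rw [show g = k * (k⁻¹ * g) from (mul_inv_cancel_left k g).symm,
        show g' = k' * (k'⁻¹ * g') from (mul_inv_cancel_left k' g').symm]
      generalize k⁻¹ * g = u at hkc ⊢
      generalize k'⁻¹ * g' = v at hkc' ⊢
      have cu : ∀ x, x * u = u * x := Subgroup.mem_center_iff.1 hkc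
      have cv : ∀ x, x * v = v * x := Subgroup.mem_center_iff.1 hkc'
      have e : ⁅k * u, k' * v⁆ = ⁅k, k'⁆ := by
        calc ⁅k * u, k' * v⁆ = k * (u * (k' * v) * u⁻¹) * k⁻¹ * (k' * v)⁻¹ := by rw [commutatorElement_def]; group
          _ = k * (k' * v) * k⁻¹ * (k' * v)⁻¹ := by rw [← cu, mul_inv_cancel_right]
          _ = k * k' * (v * k⁻¹ * v⁻¹) * k'⁻¹ := by group
          _ = ⁅k, k'⁆ := by rw [← cv, mul_inv_cancel_right, commutatorElement_def]
      rw [e, commutatorElement_def]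
      exact mul_mem (mul_mem (mul_mem hk hk') (inv_mem hk)) (inv_mem hk')
    have hdK : d ∈ K := by
      have : (⟨d, S.self_mem hd⟩ : Subgroup.closure (nb D d)) ∈ K' :=
        hle ((S.perfect hd).symm ▸ Subgroup.mem_top _)
      rwa [hK', Subgroup.mem_subgroupOf] at this
    exact hn (Subgroup.mem_centralizer_singleton_iff.1 (hKx hdK))
  have hmem : ∀ i, i < 10 → W i ∈ D := fun i hi => by
    rcases Nat.lt_or_ge i 9 with h | h
    · exact Wi i h ▸ (hw _).1
    · obtain rfl : i = 9 := by omega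
      exact W9 ▸ hx
  have hadj : ∀ i j, i < 10 → j < 10 → (Commute (W i) (W j) ↔ edgeC i j = false) := by
    have h9 : ∀ j, j < 9 → (Commute (W 9) (W j) ↔ edgeC 9 j = false) := fun j hj => by
      rw [W9]
      rcases eq_or_ne j 6 with rfl | h6
      · exact iff_of_false hg (by decide)
      · refine iff_of_true (Wc j hj h6) ?_
        interval_cases j <;> first | exact absurd rfl h6 | decide
    intro i j hi hj
    rcases Nat.lt_or_ge i 9 with h | h <;> rcases Nat.lt_or_ge j 9 with h' | h'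
    · rw [Wi i h, Wi j h', ← S.qd_comm hd (hw _) (hw _), ew, ew]
      have he : edgeC i j = edgeB i j := (show ∀ i < 9, ∀ j < 9, edgeC i j = edgeB i j by decide) i h j h'
      rw [he]
      refine ⟨fun e0 => ?_, fun e0 => Y.comm i j h h' e0⟩
      cases hb : edgeB i j
      · rfl
      · exact absurd e0 (Y.ncomm i j h h' hb)
    · obtain rfl : j = 9 := by omega
      rw [Commute.symm_iff, h9 i h, show edgeC i 9 = edgeC 9 i by interval_cases i <;> decide]
    · obtain rfl : i = 9 := by omega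
      exact h9 j h'
    · obtain rfl : i = 9 := by omega
      obtain rfl : j = 9 := by omega
      exact iff_of_true (Commute.refl _) (by decide)
  have hval : ∀ {L v : List ℕ}, lettersIn L v = true → (∀ i ∈ L, i < 9) → val y v = 1 →
      val W v = 1 ∨ val W v = d := by
    intro L v hv hL h1
    have h9 : ∀ i ∈ v, i < 9 := fun i hi => hL i (letters_spec hv i hi)
    obtain ⟨hm, hq⟩ := qd_prod (D := D) (d := d) (l := v.map W) fun q hq => by
      obtain ⟨i, hi, rfl⟩ := List.mem_map.1 hq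
      exact mem_H (Wi i (h9 i hi) ▸ hw _)
    refine S.center_cases hd hm ?_
    show qd D d (v.map W).prod = 1
    rw [hq, List.map_map, ← h1]
    show _ = (v.map y).prod
    congr 1
    exact List.map_congr_left fun i hi => by rw [Function.comp_apply, Wi i (h9 i hi), ew]
  have hone : ∀ {v : List ℕ}, lettersIn [0, 1, 2, 3, 4, 5, 7, 8] v = true → val y v = 1 → val W v = 1 := by
    intro v hv h1
    refine (hval hv (by decide) h1).resolve_right fun e0 => hn ?_
    rw [← e0]
    refine (Commute.list_prod_right _ _ fun q hq => ?_).symm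
    obtain ⟨i, hi, rfl⟩ := List.mem_map.1 hq
    have := letters_spec hv i hi
    simp only [List.mem_cons, List.not_mem_nil, or_false] at this
    exact Wc i (by omega) (by omega)
  obtain ⟨hsp, halt, h7⟩ := Y.relations (S.quot hd) (tee_ncomm (S.quot hd) Y)
  obtain ⟨l1, l2, l3⟩ := words_letters
  have hsp' := hone l1 hsp
  have halt' := hone l2 halt
  exact ⟨W, hmem, hadj, fun i hi => Wi i hi ▸ hw _, fun e => hn (W9 ▸ e), halt', hsp',
    (hval l3 (by decide) h7).symm⟩

/-- The homomorphism from Fi23. -/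
theorem Ten.exists_map (S : Setting23 D) {d : G} {W : ℕ → G} (T : Ten D d W) :
    ∃ φ : Cfsg.Spor.Fi23 →* G, Function.Injective φ ∧
      (∀ x, φ (CfsgLib.Spor.Fi23.gen x) = W (num x)) ∧ φ CfsgLib.Spor.Fi23.z = d := by
  have hW := S.weak
  have hrel : ∀ r ∈ Cfsg.Spor.coxRelators Cfsg.Spor.Fi23.edges ∪ {r | r ∈ Cfsg.Spor.Fi23.extra},
      FreeGroup.lift (fun x => W (num x)) r = 1 := by
    rintro r (⟨x, -, u, -, rfl⟩ | hr)
    · rw [map_pow, map_mul, FreeGroup.lift_apply_of, FreeGroup.lift_apply_of, num_label]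
      have hx' := num_lt x
      have hu := num_lt u
      split_ifs with h1 h2
      · rw [pow_one, h1, hW.sq _ (T.mem _ hu)]
      · rw [pow_succ, pow_two, mul_assoc]
        refine TypeM22.Unique.pow_three hW (T.mem _ hx') (T.mem _ hu) fun e0 => ?_
        have := (T.adj _ _ hx' hu).1 e0
        rw [h2] at this
        exact Bool.noConfusion this
      · rw [pow_two, ← mul_assoc, mul_assoc (W (num x)) (W (num u)) (W (num x)),
          ((T.adj _ _ hx' hu).2 (by simpa using h2)).symm.eq, ← mul_assoc, hW.sq _ (T.mem _ hx'), one_mul,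
          hW.sq _ (T.mem _ hu)]
    · have : FreeGroup.lift (fun x => W (num x)) r ∈ [val W spiderW, val W wordAlt] :=
        (extra_lift (y := W)) ▸ List.mem_map.2 ⟨r, hr, rfl⟩
      simp only [T.spider, T.alt, List.mem_cons, List.not_mem_nil, or_false, or_self] at this
      exact this
  obtain ⟨φ, hφ⟩ : ∃ φ : Cfsg.Spor.Fi23 →* G, ∀ x, φ (CfsgLib.Spor.Fi23.gen x) = W (num x) :=
    ⟨PresentedGroup.toGroup hrel, fun x => PresentedGroup.toGroup.of hrel⟩
  have : IsSimpleGroup Cfsg.Spor.Fi23 := CfsgLib.Spor.Fi23.isFi23.1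
  have hinj : Function.Injective φ := by
    rw [← MonoidHom.ker_eq_bot_iff]
    refine ((MonoidHom.normal_ker φ).eq_bot_or_eq_top).resolve_right fun e0 => ?_
    have h9 : φ (CfsgLib.Spor.Fi23.gen .j) = 1 := MonoidHom.mem_ker.1 (e0 ▸ Subgroup.mem_top _)
    rw [hφ, show num .j = 9 from rfl] at h9
    exact T.last (h9 ▸ Commute.one_right _)
  refine ⟨φ, hinj, hφ, ?_⟩
  have hz : φ CfsgLib.Spor.Fi23.z = val W wordSeven := by
    simp [CfsgLib.Spor.Fi23.z, CfsgLib.Spor.Fi23.sevenWord, map_pow, hφ, num, wordSeven, val, pow_succ,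
      List.replicate_succ, mul_assoc]
  rcases T.seven with r | r
  · exact hz.trans r
  · exact absurd (hinj ((hz.trans r).trans φ.map_one.symm)) CfsgLib.Spor.Fi23.z_ne_one

theorem Ten.seven_eq (S : Setting23 D) {d : G} {W : ℕ → G} (T : Ten D d W) : val W wordSeven = d := by
  obtain ⟨φ, hinj, hφ, -⟩ := T.exists_map S
  refine T.seven.resolve_right fun r => CfsgLib.Spor.Fi23.z_ne_one (hinj ?_)
  rw [map_one, ← r]
  simp [CfsgLib.Spor.Fi23.z, CfsgLib.Spor.Fi23.sevenWord, map_pow, hφ, num, wordSeven, val, pow_succ,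
    List.replicate_succ, mul_assoc]

end CfsgLib.KnownB.TypeM24.Unique
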