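import Cfsg.Agent.Lib.KnownB.TypeM24Unique.Kernel
import Cfsg.Agent.Lib.KnownB.TypeM24Unique.Ten
import Cfsg.Agent.Lib.Spor.Fi24.Spider
import Cfsg.Agent.Lib.Spor.Fi23.OutPoints

/-!
Ten partners of a member of a group of type M(24): the product of type E7 is the member.
-/

set_option autoImplicit false
set_option maxRecDepth 100000

namespace CfsgLib.KnownB.TypeM24.Unique

open Cfsg CfsgLib.ThreeTransp CfsgLib.Involutions
open CfsgLib.KnownB.TypeM22 CfsgLib.KnownB.TypeM22.Unique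
open CfsgLib.KnownB.TypeM23 CfsgLib.KnownB.TypeM23.Unique
open CfsgLib.KnownB.Fi22Mult (edgeB val val_nil val_cons val_append)

universe u

variable {G : Type u} [Group G] {D : Set G}

/-- Ten partners of `l` in the pattern, and the member which they carry in the quotient. -/
structure Top (D : Set G) (l m : G) (W : ℕ → G) : Prop where
  hl : l ∈ D
  hm : m ∈ nb D l
  mem : ∀ i, i < 10 → W i ∈ nb D l
  adj : ∀ i j, i < 10 → j < 10 → (Commute (W i) (W j) ↔ edgeC i j = false)
  nine : ∀ i, i < 9 → W i ∈ nb D m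
  last : ¬ Commute m (W 9)
  ten : Ten (Dq D l) (qd D l m) fun i => qd D l (W i)

/-- The value of a word in the quotient. -/
theorem qd_val {d : G} {W : ℕ → G} {v : List ℕ} (hv : ∀ i ∈ v, W i ∈ Subgroup.closure (nb D d)) :
    val W v ∈ Subgroup.closure (nb D d) ∧ qd D d (val W v) = val (fun i => qd D d (W i)) v := by
  induction v with
  | nil => exact ⟨one_mem _, qd_one⟩
  | cons a v ih =>
    obtain ⟨h1, h2⟩ := ih fun i hi => hv i (List.mem_cons_of_mem _ hi)
    rw [val_cons, val_cons, ← h2]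
    exact ⟨mul_mem (hv a (by simp)) h1, qd_mul (hv a (by simp)) h1⟩

theorem edgeC_self (i : ℕ) (hi : i < 10) : edgeC i i = false := by interval_cases i <;> decide

variable [Finite G]

theorem exists_top (S : Setting24 D) {l : G} (hl : l ∈ D) : ∃ m W, Top D l m W := by
  obtain ⟨a, ha, -⟩ := pair_of_typeM23 (S.typ_all hl)
  obtain ⟨W', T⟩ := exists_ten (S.quot hl) ha
  obtain ⟨m, hm, rfl⟩ := dq_exists ha
  have hlift : ∀ i : Fin 10, ∃ y, y ∈ nb D l ∧ qd D l y = W' i.val := fun i => dq_exists (T.mem i.val i.2)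
  choose w hw ew using hlift
  obtain ⟨W, hWd⟩ : ∃ W : ℕ → G, W = fun i => if h : i < 10 then w ⟨i, h⟩ else 1 := ⟨_, rfl⟩
  have Wi : ∀ i (h : i < 10), W i = w ⟨i, h⟩ := fun i h => by rw [hWd]; exact dif_pos h
  have e : ∀ i, i < 10 → qd D l (W i) = W' i := fun i hi => by rw [Wi i hi]; exact ew _
  have hmem : ∀ i, i < 10 → W i ∈ nb D l := fun i hi => Wi i hi ▸ hw _
  have hadj : ∀ i j, i < 10 → j < 10 → (Commute (W i) (W j) ↔ edgeC i j = false) := fun i j hi hj => by
    rw [← S.qd_comm hl (hmem i hi) (hmem j hj), e i hi, e j hj]; exact T.adj i j hi hj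
  have hval : ∀ v : List ℕ, (∀ i ∈ v, i < 10) → val (fun i => qd D l (W i)) v = val W' v := fun v hv =>
    congrArg List.prod (List.map_congr_left fun i hi => e i (hv i hi))
  refine ⟨m, W, hl, hm, hmem, hadj, fun i hi => ?_, fun c => ?_, ?_⟩
  · obtain ⟨-, hne, hc⟩ := T.nine i hi
    rw [← e i (by omega)] at hne hc
    exact ⟨(hmem i (by omega)).1, fun e0 => hne (congrArg _ e0), (S.qd_comm hl hm (hmem i (by omega))).1 hc⟩
  · exact T.last (e 9 (by norm_num) ▸ (S.qd_comm hl hm (hmem 9 (by norm_num))).2 c)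
  · refine ⟨fun i hi => e i hi ▸ T.mem i hi, fun i j hi hj => ?_, fun i hi => (e i (by omega)).symm ▸ T.nine i hi,
      (e 9 (by norm_num)).symm ▸ T.last, ?_, ?_, ?_⟩
    · simp only [e i hi, e j hj]; exact T.adj i j hi hj
    all_goals rw [hval _ (by decide +kernel)]
    exacts [T.alt, T.spider, T.seven]

/-- The Coxeter relations. -/
theorem Top.cox (S : Setting24 D) {l m : G} {W : ℕ → G} (T : Top D l m W) (x u : Cfsg.Spor.Fi23.Gen) :
    (W (num x) * W (num u)) ^ Cfsg.Spor.coxLabel Cfsg.Spor.Fi23.edges x u = 1 := by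
  have hW := S.weak
  have hx := num_lt x
  have hu := num_lt u
  rw [num_label]
  split_ifs with h1 h2
  · rw [pow_one, h1, hW.sq _ (T.mem _ hu).1]
  · rw [pow_succ, pow_two, mul_assoc]
    refine TypeM22.Unique.pow_three hW (T.mem _ hx).1 (T.mem _ hu).1 fun e0 => ?_
    have := (T.adj _ _ hx hu).1 e0
    rw [h2] at this
    exact Bool.noConfusion this
  · rw [pow_two, ← mul_assoc, mul_assoc (W (num x)) (W (num u)) (W (num x)),
      ((T.adj _ _ hx hu).2 (by simpa using h2)).symm.eq, ← mul_assoc, hW.sq _ (T.mem _ hx).1, one_mul,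
      hW.sq _ (T.mem _ hu).1]

open CfsgLib.Spor.Fi24.Spider in
/-- The product of type E7 is the member. -/
theorem Top.alt_eq (S : Setting24 D) {l m : G} {W : ℕ → G} (T : Top D l m W) : val W wordAlt = l := by
  have hl := T.hl
  have hH : ∀ i, i < 10 → W i ∈ Subgroup.closure (nb D l) := fun i hi => mem_H (T.mem i hi)
  obtain ⟨ha, hqa⟩ := qd_val (v := wordAlt) fun i hi => hH i ((by decide +kernel : ∀ i ∈ wordAlt, i < 10) i hi)
  refine (S.center_cases hl ha (hqa.trans T.ten.alt)).resolve_left fun halt => ?_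
  obtain ⟨hs, hqs⟩ := qd_val (v := spiderW) fun i hi => hH i ((by decide +kernel : ∀ i ∈ spiderW, i < 10) i hi)
  have hsc : ∀ i, i < 10 → Commute (val W spiderW) (W i) := fun i hi => by
    rcases S.center_cases hl hs (hqs.trans T.ten.spider) with r | r <;> rw [r]
    · exact Commute.one_left _
    · exact (T.mem i hi).2.2
  have e7 : (seven23.map fun x => W (num x)).prod = val W wordAlt := by
    simp [seven23, wordAlt, num, val, List.replicate_succ]
  have es : (spider23.map fun x => W (num x)).prod = val W spiderW := by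
    simp [spider23, spiderW, num, val, List.replicate_succ]
  obtain ⟨ρ, hρ⟩ : ∃ ρ : Gam →* G, ∀ x, ρ (gg x) = W (num x) := by
    refine ⟨PresentedGroup.toGroup (f := fun x => W (num x)) ?_, fun x => PresentedGroup.toGroup.of _⟩
    rintro r (⟨x, -, u, -, rfl⟩ | rfl | ⟨x, rfl⟩)
    · rw [map_pow, map_mul, FreeGroup.lift_apply_of, FreeGroup.lift_apply_of]
      exact T.cox S x u
    · rw [lift_fr, e7, halt]
    · simp only [map_mul, map_inv, lift_fr, FreeGroup.lift_apply_of, es]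
      rw [(hsc _ (num_lt x)).eq, mul_inv_cancel_right, mul_inv_cancel]
  have hspider : val W spiderW = 1 := by
    rw [← es, ← map_one ρ, ← sp_eq_one, sp, map_list_prod, List.map_map]
    exact congrArg List.prod (List.map_congr_left fun x _ => (hρ x).symm)
  have hrel : ∀ r ∈ Cfsg.Spor.coxRelators Cfsg.Spor.Fi23.edges ∪ {r | r ∈ Cfsg.Spor.Fi23.extra},
      FreeGroup.lift (fun x => W (num x)) r = 1 := by
    rintro r (⟨x, -, u, -, rfl⟩ | hr)
    · rw [map_pow, map_mul, FreeGroup.lift_apply_of, FreeGroup.lift_apply_of]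
      exact T.cox S x u
    · have : FreeGroup.lift (fun x => W (num x)) r ∈ [val W spiderW, val W wordAlt] :=
        (extra_lift (y := W)) ▸ List.mem_map.2 ⟨r, hr, rfl⟩
      simp only [hspider, halt, List.mem_cons, List.not_mem_nil, or_false, or_self] at this
      exact this
  obtain ⟨ψ, hψ⟩ : ∃ ψ : Cfsg.Spor.Fi23 →* G, ∀ x, ψ (CfsgLib.Spor.Fi23.gen x) = W (num x) :=
    ⟨PresentedGroup.toGroup hrel, fun x => PresentedGroup.toGroup.of hrel⟩
  obtain ⟨φ, hφi, hφ, -⟩ := T.ten.exists_map (S.quot hl)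
  haveI : Finite Cfsg.Spor.Fi23 := CfsgLib.Spor.Fi23.finite
  have hb : Function.Bijective φ := (Nat.bijective_iff_injective_and_card φ).2 ⟨hφi, by
    rw [(S.quot hl).card_group, CfsgLib.Spor.Fi23.natCard]; norm_num⟩
  have hr : ∀ g, ψ g ∈ Subgroup.closure (nb D l) ∧ qd D l (ψ g) = φ g := fun g => by
    have hg : g ∈ Subgroup.closure (Set.range (CfsgLib.Spor.Fi23.gen)) :=
      CfsgLib.Spor.Fi23.Auto.closure_gen ▸ Subgroup.mem_top g
    induction hg using Subgroup.closure_induction with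
    | mem y hy => obtain ⟨x, rfl⟩ := hy; rw [hψ, hφ]; exact ⟨hH _ (num_lt x), rfl⟩
    | one => rw [map_one, map_one]; exact ⟨one_mem _, qd_one⟩
    | mul a b _ _ iha ihb =>
      rw [map_mul, map_mul, ← iha.2, ← ihb.2]; exact ⟨mul_mem iha.1 ihb.1, qd_mul iha.1 ihb.1⟩
    | inv a _ iha => rw [map_inv, map_inv, ← iha.2]; exact ⟨inv_mem iha.1, qd_inv iha.1⟩
  have h0 : W 0 ∈ ψ.range := ⟨_, hψ .a⟩
  have hnb : ∀ y ∈ nb D l, y ∈ ψ.range := fun y hy => by
    obtain ⟨q, hq⟩ := (S.quot hl).cls.trans _ (qd_mem (T.mem 0 (by norm_num))) _ (qd_mem hy)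
    obtain ⟨g, rfl⟩ := hb.2 q
    rw [← (hr g).2, ← qd_conj (hr g).1 (hH 0 (by norm_num))] at hq
    have hy' : ψ g * W 0 * (ψ g)⁻¹ ∈ nb D l := TypeM22.conj_nb S.weak (commute_closure_nb (hr g).1) (T.mem 0 (by norm_num))
    rw [← S.qd_inj hl hy' hy hq]
    exact mul_mem (mul_mem ⟨g, rfl⟩ h0) (inv_mem ⟨g, rfl⟩)
  obtain ⟨g, hg⟩ : l ∈ ψ.range := (Subgroup.closure_le _).2 hnb (S.self_mem hl)
  have hg1 : φ g = 1 := by rw [← (hr g).2, hg]; exact S.qd_self hl
  rw [hφi (hg1.trans φ.map_one.symm), map_one] at hg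
  exact S.cls.not_mem_center hl (hg ▸ one_mem _)

end CfsgLib.KnownB.TypeM24.Unique
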