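import Cfsg.Agent.Lib.KnownB.TypeM24Unique.Pairs

/-!
A group of type M(24) is the Fischer group Fi24, with its class of transpositions.
-/

set_option autoImplicit false

namespace CfsgLib.KnownB.TypeM24

open Cfsg CfsgLib.ThreeTransp CfsgLib.Involutions
open CfsgLib.KnownB.TypeM22 CfsgLib.KnownB.TypeM23
open scoped commutatorElement

universe u

variable {G : Type u} [Group G] [Finite G] {D : Set G}

/-- A group of type M(24) is isomorphic to Fi24, its class going to the transpositions. -/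
theorem exists_iso_fi24 (hD : IsThreeTranspositionGroup D) (hp : IsPrimitiveUnderConj D) (ht : IsOfTypeM24 G D) :
    ∃ e : G ≃* Cfsg.Spor.Fi24, e '' D = conjugatesOf (CfsgLib.Spor.Fi24.gen .l) := by
  have S := Unique.setting_of hD hp ht
  obtain ⟨d, hd, -⟩ := S.cls.two
  obtain ⟨m, W, k, F⟩ := Unique.exists_full S hd
  obtain ⟨ψ, hsurj, hl, hk⟩ := F.exists_map S
  haveI : Finite Cfsg.Spor.Fi24 := CfsgLib.Spor.Fi24.finite_Fi24
  haveI hsim : IsSimpleGroup (commutator Cfsg.Spor.Fi24) := CfsgLib.Spor.Fi24.isFi24'.1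
  have hinj : Function.Injective ψ := by
    rw [← MonoidHom.ker_eq_bot_iff, eq_bot_iff, ← CfsgLib.Spor.FischerTypes.center24 CfsgLib.Spor.Fi24.cosetFacts]
    intro z hz
    have hne : ¬ (commutator Cfsg.Spor.Fi24 ≤ ψ.ker) := fun h => F.kl (by
      have := h (Subgroup.commutator_mem_commutator (Subgroup.mem_top (CfsgLib.Spor.Fi24.gen .k))
        (Subgroup.mem_top (CfsgLib.Spor.Fi24.gen .l)))
      rwa [MonoidHom.mem_ker, map_commutatorElement, hl, hk, commutatorElement_eq_one_iff_mul_comm] at this)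
    rcases hsim.eq_bot_or_eq_top_of_normal (ψ.ker.subgroupOf (commutator Cfsg.Spor.Fi24)) inferInstance with r | r
    · refine Subgroup.mem_center_iff.2 fun g => commutatorElement_eq_one_iff_mul_comm.1 ?_
      have h2 : (⟨⁅g, z⁆, Subgroup.commutator_mem_commutator (Subgroup.mem_top g) (Subgroup.mem_top z)⟩ :
          commutator Cfsg.Spor.Fi24) ∈ ψ.ker.subgroupOf (commutator Cfsg.Spor.Fi24) := by
        show ⁅g, z⁆ ∈ ψ.ker
        rw [MonoidHom.mem_ker, map_commutatorElement, MonoidHom.mem_ker.1 hz, commutatorElement_one_right]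
      rw [r, Subgroup.mem_bot] at h2
      exact congrArg Subtype.val h2
    · exact absurd (Subgroup.subgroupOf_eq_top.1 r) hne
  refine ⟨(MulEquiv.ofBijective ψ ⟨hinj, hsurj⟩).symm, ?_⟩
  ext x
  constructor
  · rintro ⟨y, hy, rfl⟩
    obtain ⟨g, hg⟩ := S.cls.trans d hd y hy
    refine isConj_iff.2 ⟨(MulEquiv.ofBijective ψ ⟨hinj, hsurj⟩).symm g, ?_⟩
    rw [← hg, map_mul, map_mul, map_inv]
    congr 2
    exact ((MulEquiv.ofBijective ψ ⟨hinj, hsurj⟩).eq_symm_apply).2 hl
  · intro hx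
    obtain ⟨w, rfl⟩ := isConj_iff.1 hx
    exact ⟨ψ w * d * (ψ w)⁻¹, S.cls.conj _ d hd, (MulEquiv.symm_apply_eq _).2 (by
      show _ = ψ _
      rw [map_mul, map_mul, map_inv, hl])⟩

omit [Finite G] in
/-- A finite group with trivial centre and non-abelian simple derived group has that group for layer. -/
theorem layer_eq_commutator [Finite G] [IsSimpleGroup (commutator G)] (hna : ¬ IsMulCommutative (commutator G))
    (hZ : Subgroup.center G = ⊥) : layer G = commutator G := by
  have hN : IsComponent (commutator G) := ⟨Subgroup.Normal.isSubnormal inferInstance,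
    Components.isQuasisimple_of_isSimpleGroup hna⟩
  have hcen : Subgroup.centralizer (commutator G : Set G) = ⊥ := by
    haveI : (Subgroup.centralizer (commutator G : Set G)).Normal := inferInstance
    rw [eq_bot_iff, ← hZ]
    intro c hc
    refine Subgroup.mem_center_iff.2 fun g => commutatorElement_eq_one_iff_mul_comm.1 ?_
    have h1 : ⁅g, c⁆ ∈ commutator G := Subgroup.commutator_mem_commutator (Subgroup.mem_top g) (Subgroup.mem_top c)
    have h2 : ⁅g, c⁆ ∈ Subgroup.centralizer (commutator G : Set G) := by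
      rw [commutatorElement_def]
      exact mul_mem (Subgroup.Normal.conj_mem inferInstance c hc g) (inv_mem hc)
    have h3 : (⟨⁅g, c⁆, h1⟩ : commutator G) ∈ Subgroup.center (commutator G) :=
      Subgroup.mem_center_iff.2 fun y => Subtype.ext (Subgroup.mem_centralizer_iff.1 h2 y y.2)
    rcases IsSimpleGroup.eq_bot_or_eq_top_of_normal (Subgroup.center (commutator G)) inferInstance with r | r
    · rw [r, Subgroup.mem_bot] at h3
      exact congrArg Subtype.val h3
    · exact absurd ⟨⟨fun a b => (Subgroup.mem_center_iff.1 (r ▸ Subgroup.mem_top b) a)⟩⟩ hna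
  refine le_antisymm (Components.layer_le_iff.2 fun K hK => ?_) (Components.component_le_layer hN)
  by_contra hle
  refine Components.component_ne_bot hK (le_bot_iff.1 (hcen ▸ ?_))
  exact Subgroup.commutator_eq_bot_iff_le_centralizer.1
    (Components.component_commutator_eq_bot_of_not_le hK hN.1 hle)

theorem layer_index (hD : IsThreeTranspositionGroup D) (hp : IsPrimitiveUnderConj D) (ht : IsOfTypeM24 G D) :
    (layer G).index = 2 := by
  have S := Unique.setting_of hD hp ht
  obtain ⟨e, -⟩ := exists_iso_fi24 hD hp ht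
  haveI : Finite Cfsg.Spor.Fi24 := CfsgLib.Spor.Fi24.finite_Fi24
  haveI : IsSimpleGroup (commutator G) := (S.cls.simple_iff_primitive S.center S.exists_pair).1.2 S.prim
  have hmap : (commutator G).map e.toMonoidHom = commutator Cfsg.Spor.Fi24 := by
    rw [commutator_def, Subgroup.map_commutator, Subgroup.map_top_of_surjective _ e.surjective, commutator_def]
  have hna : ¬ IsMulCommutative (commutator G) := fun h => by
    obtain ⟨-, hperf⟩ := S.fischer
    have h0 : commutator G = ⊥ := hperf ▸ Subgroup.commutator_eq_bot_iff_le_centralizer.2 fun x hx =>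
      Subgroup.mem_centralizer_iff.2 fun y hy =>
        congrArg Subtype.val (h.is_comm.comm (⟨y, hy⟩ : commutator G) ⟨x, hx⟩)
    exact (Subgroup.nontrivial_iff_ne_bot _).1 IsSimpleGroup.toNontrivial h0
  rw [layer_eq_commutator hna S.center, ← Subgroup.index_map_equiv (H := commutator G) e]
  exact hmap ▸ CfsgLib.Spor.Fi24.index_commutator

/-- The width of a group of type M(24). -/
theorem width (hD : IsThreeTranspositionGroup D) (hp : IsPrimitiveUnderConj D) (ht : IsOfTypeM24 G D) :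
    commutingWidth D = 24 := by
  have S := Unique.setting_of hD hp ht
  have hbdd : ∀ {H : Type u} [Group H] [Finite H] (E : Set H),
      BddAbove {n : ℕ | ∃ T : Set H, T ⊆ E ∧ T.Finite ∧ (∀ a ∈ T, ∀ c ∈ T, Commute a c) ∧ T.ncard = n} :=
    fun {H} _ _ E => ⟨Nat.card H, by rintro _ ⟨T, -, -, -, rfl⟩; exact Set.ncard_le_card T⟩
  have hw : ∀ d ∈ D, commutingWidth (Dq D d) = 23 := fun d hd => (S.quot hd).width
  have hncard : ∀ {d : G}, d ∈ D → ∀ {A : Set G}, A ⊆ nb D d → (qd D d '' A).ncard = A.ncard :=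
    fun hd A hA => Set.InjOn.ncard_image fun x hx y hy e => S.qd_inj hd (hA hx) (hA hy) e
  refine le_antisymm (csSup_le ⟨0, ∅, by simp⟩ ?_) (le_csSup (hbdd D) ?_)
  · rintro n ⟨E, hE, -, hc, rfl⟩
    rcases E.eq_empty_or_nonempty with rfl | ⟨d, hdE⟩
    · simp
    have hd := hE hdE
    have hsub : E \ {d} ⊆ nb D d := fun y hy => ⟨hE hy.1, hy.2, hc d hdE y hy.1⟩
    have h1 : (qd D d '' (E \ {d})).ncard ≤ 23 := by
      rw [← hw d hd]
      refine le_csSup (hbdd _) ⟨_, ?_, Set.toFinite _, ?_, rfl⟩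
      · rintro _ ⟨y, hy, rfl⟩; exact qd_mem (hsub hy)
      · rintro _ ⟨y, hy, rfl⟩ _ ⟨z, hz, rfl⟩
        exact (S.qd_comm hd (hsub hy) (hsub hz)).2 (hc y hy.1 z hz.1)
    rw [hncard hd hsub] at h1
    have h6 := Set.ncard_sdiff_singleton_add_one hdE (Set.toFinite _)
    omega
  · obtain ⟨d, hd, -⟩ := S.exists_pair
    obtain ⟨T, hT, -, hTc, hTn⟩ := Nat.sSup_mem (s := {n : ℕ | ∃ T : Set (Qd D d), T ⊆ Dq D d ∧ T.Finite ∧
      (∀ a ∈ T, ∀ c ∈ T, Commute a c) ∧ T.ncard = n}) ⟨0, ∅, by simp⟩ (hbdd _)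
    have e23 : T.ncard = 23 := hTn.trans (hw d hd)
    refine ⟨insert d {y | y ∈ nb D d ∧ qd D d y ∈ T}, Set.insert_subset hd fun y hy => hy.1.1, Set.toFinite _, ?_, ?_⟩
    · rintro a (rfl | ha) c (rfl | hc)
      · exact Commute.refl _
      · exact hc.1.2.2
      · exact ha.1.2.2.symm
      · exact (S.qd_comm hd ha.1 hc.1).1 (hTc _ ha.2 _ hc.2)
    · rw [Set.ncard_insert_of_notMem fun hh => hh.1.2.1 rfl, ← hncard hd fun y hy => hy.1,
        show qd D d '' {y | y ∈ nb D d ∧ qd D d y ∈ T} = T from ?_, e23]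
      ext z
      refine ⟨fun ⟨y, hy, e⟩ => e ▸ hy.2, fun hz => ?_⟩
      obtain ⟨y, hy, rfl⟩ := dq_exists (hT hz)
      exact ⟨y, ⟨hy, hz⟩, rfl⟩

/-- The number of members and the order of a group of type M(24). -/
theorem counts (hD : IsThreeTranspositionGroup D) (hp : IsPrimitiveUnderConj D) (ht : IsOfTypeM24 G D) :
    D.ncard = 306936 ∧ Nat.card G = 2 ^ 22 * 3 ^ 16 * 5 ^ 2 * 7 ^ 3 * 11 * 13 * 17 * 23 * 29 := by
  obtain ⟨e, he⟩ := exists_iso_fi24 hD hp ht
  let X := CfsgLib.Spor.FischerTypes.cls24 CfsgLib.Spor.Fi24.cosetFacts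
  refine ⟨?_, ?_⟩
  · rw [← Set.ncard_image_of_injective D e.injective, he,
      show conjugatesOf (CfsgLib.Spor.Fi24.gen .l) = Set.range X.tp from X.range_tp.symm,
      Set.ncard_range_of_injective X.tp_injective, Nat.card_fin]
  · rw [Nat.card_congr e.toEquiv, CfsgLib.Spor.Fi24.natCard]
    norm_num

/-- The partners of a member generate its centraliser. -/
theorem centralizer_eq (hD : IsThreeTranspositionGroup D) (hp : IsPrimitiveUnderConj D) (ht : IsOfTypeM24 G D)
    {d : G} (hd : d ∈ D) : Subgroup.closure (nb D d) = Subgroup.centralizer ({d} : Set G) := by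
  have S := Unique.setting_of hD hp ht
  obtain ⟨e, he⟩ := exists_iso_fi24 hD hp ht
  obtain ⟨w, hw⟩ := isConj_iff.1 (show IsConj (CfsgLib.Spor.Fi24.gen .l) (e d) from he.subset (Set.mem_image_of_mem e hd))
  obtain ⟨f, hf⟩ : ∃ f : G ≃* Cfsg.Spor.Fi24, ∀ x, f x = w⁻¹ * e x * w :=
    ⟨e.trans (MulAut.conj w⁻¹), fun x => by simp⟩
  have hfd : f d = CfsgLib.Spor.Fi24.gen .l := by rw [hf, ← hw]; group
  have hfD : f '' D = conjugatesOf (CfsgLib.Spor.Fi24.gen .l) := by
    ext x
    constructor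
    · rintro ⟨y, hy, rfl⟩
      obtain ⟨g, hg⟩ := S.cls.trans d hd y hy
      exact isConj_iff.2 ⟨f g, by rw [← hg, ← hfd, map_mul, map_mul, map_inv]⟩
    · intro hx
      obtain ⟨v, rfl⟩ := isConj_iff.1 hx
      refine ⟨f.symm v * d * (f.symm v)⁻¹, S.cls.conj _ d hd, ?_⟩
      rw [map_mul, map_mul, map_inv, hfd, MulEquiv.apply_symm_apply]
  refine Subgroup.map_injective f.injective (f := f.toMonoidHom) ?_
  rw [MonoidHom.map_closure]
  have himg : f.toMonoidHom '' nb D d = CfsgLib.Spor.FischerTypes.nbL := by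
    rw [CfsgLib.Spor.FischerTypes.nbL, ← hfD, ← hfd]
    exact (CfsgLib.Spor.FischerTypes.image_nb f D d).symm
  rw [himg, CfsgLib.Spor.FischerTypes.nb_closure24 CfsgLib.Spor.Fi24.cosetFacts,
    ← CfsgLib.Spor.FischerTypes.centralizer_l CfsgLib.Spor.Fi24.cosetFacts]
  ext x
  rw [Subgroup.mem_centralizer_singleton_iff, Subgroup.mem_map]
  constructor
  · intro hx
    refine ⟨f.symm x, Subgroup.mem_centralizer_singleton_iff.2 (f.injective ?_), f.apply_symm_apply x⟩
    simpa [map_mul, hfd] using hx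
  · rintro ⟨y, hy, rfl⟩
    show f y * _ = _ * f y
    rw [← hfd, ← map_mul, ← map_mul, Subgroup.mem_centralizer_singleton_iff.1 hy]

end CfsgLib.KnownB.TypeM24
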