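import Cfsg.Agent.Lib.KnownB.TypeM23Unique.Nine
import Cfsg.Agent.Lib.Spor.Fi22Out.Main
import Cfsg.Agent.Lib.Spor.Fi22.Simple

/-!
Nine members in the pattern in type M(22): up to inner automorphisms and the symmetry there is one way.
-/

set_option autoImplicit false
set_option maxRecDepth 100000

namespace CfsgLib.KnownB.TypeM24.Unique

open Cfsg CfsgLib.ThreeTransp CfsgLib.Involutions
open CfsgLib.KnownB.TypeM22 CfsgLib.KnownB.TypeM22.Unique CfsgLib.KnownB.TypeM23.Unique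
open CfsgLib.Spor.Fi22 (idx)

universe u

variable {Q : Type u} [Group Q] [Finite Q] {E : Set Q}

theorem pattern_iso (S : TypeM22.Setting E) {y : ℕ → Q} (Y : Pattern E y) :
    ∃ e : Cfsg.Spor.Fi22 ≃* Q, ∀ x, e (PresentedGroup.of x) = y (idx x) := by
  obtain ⟨φ, hφ⟩ := Y.exists_lift S (tee_ncomm S Y)
  obtain ⟨e, -⟩ := exists_iso_of_setting S
  haveI : Finite Cfsg.Spor.Fi22 := CfsgLib.Spor.Fi22.finite
  have hs : Function.Surjective φ := by
    rw [← MonoidHom.range_eq_top]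
    refine nine_generate S Y fun i hi => ?_
    obtain ⟨x, rfl⟩ : ∃ x, idx x = i := by
      interval_cases i
      exacts [⟨.a, rfl⟩, ⟨.b, rfl⟩, ⟨.c, rfl⟩, ⟨.d, rfl⟩, ⟨.e, rfl⟩, ⟨.f, rfl⟩, ⟨.g, rfl⟩, ⟨.h, rfl⟩, ⟨.i, rfl⟩]
    exact ⟨_, hφ x⟩
  exact ⟨MulEquiv.ofBijective φ ((Nat.bijective_iff_surjective_and_card φ).2
    ⟨hs, (Nat.card_congr e.toEquiv).symm⟩), hφ⟩

/-- Two patterns are conjugate, or each is conjugate to the reflection of the other, unless a pattern is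
conjugate to its own reflection. -/
theorem pattern_cases (S : TypeM22.Setting E) {y y' : ℕ → Q} (Y : Pattern E y) (Y' : Pattern E y') :
    (∃ h : Q, ∀ i, i < 9 → y i = h * y' i * h⁻¹) ∨ (∃ h : Q, ∀ i, i < 9 → y' (swap i) = h * y' i * h⁻¹) ∨
      ∃ h : Q, ∀ i, i < 9 → y i = h * y' (swap i) * h⁻¹ := by
  obtain ⟨e, he⟩ := pattern_iso S Y
  obtain ⟨f, hf⟩ := pattern_iso S Y'
  obtain ⟨g, hg⟩ := pattern_iso S Y'.swapped
  obtain ⟨α, hα⟩ : ∃ α : MulAut Cfsg.Spor.Fi22, α = e.trans f.symm := ⟨_, rfl⟩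
  obtain ⟨β, hβ⟩ : ∃ β : MulAut Cfsg.Spor.Fi22, β = g.trans f.symm := ⟨_, rfl⟩
  have hidx : ∀ i, i < 9 → ∃ x, idx x = i := fun i hi => by
    interval_cases i
    exacts [⟨.a, rfl⟩, ⟨.b, rfl⟩, ⟨.c, rfl⟩, ⟨.d, rfl⟩, ⟨.e, rfl⟩, ⟨.f, rfl⟩, ⟨.g, rfl⟩, ⟨.h, rfl⟩, ⟨.i, rfl⟩]
  by_cases ha : α ∈ Inn Cfsg.Spor.Fi22
  · obtain ⟨c, hc⟩ := ha
    refine Or.inl ⟨f c, fun i hi => ?_⟩
    obtain ⟨x, rfl⟩ := hidx i hi
    have := congrArg (fun t : MulAut Cfsg.Spor.Fi22 => f (t (PresentedGroup.of x))) hc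
    simp only [hα, MulAut.conj_apply, MulEquiv.trans_apply, MulEquiv.apply_symm_apply, map_mul, map_inv] at this
    rw [← he, ← hf, this]
  by_cases hb : β ∈ Inn Cfsg.Spor.Fi22
  · obtain ⟨c, hc⟩ := hb
    refine Or.inr (Or.inl ⟨f c, fun i hi => ?_⟩)
    obtain ⟨x, rfl⟩ := hidx i hi
    have := congrArg (fun t : MulAut Cfsg.Spor.Fi22 => f (t (PresentedGroup.of x))) hc
    simp only [hβ, MulAut.conj_apply, MulEquiv.trans_apply, MulEquiv.apply_symm_apply, map_mul, map_inv] at this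
    rw [← hg, ← hf, this]
  · have h2 : (Inn Cfsg.Spor.Fi22).index = 2 := by
      rw [Subgroup.index_eq_card]
      exact CfsgLib.SporOut.Fi22.card_out CfsgLib.Spor.Fi22.isFi22.2
    obtain ⟨c, hc⟩ : α * β⁻¹ ∈ Inn Cfsg.Spor.Fi22 := by
      rw [Subgroup.mul_mem_iff_of_index_two h2, inv_mem_iff]
      exact iff_of_false ha hb
    refine Or.inr (Or.inr ⟨f c, fun i hi => ?_⟩)
    obtain ⟨x, rfl⟩ := hidx i hi
    have hc' : α = MulAut.conj c * β := by rw [hc, inv_mul_cancel_right]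
    have := congrArg (fun t : MulAut Cfsg.Spor.Fi22 => f (t (PresentedGroup.of x))) hc'
    simp only [hα, hβ, MulAut.mul_apply, MulAut.conj_apply, MulEquiv.trans_apply, MulEquiv.apply_symm_apply,
      map_mul, map_inv] at this
    rw [← he, ← hg, this]

end CfsgLib.KnownB.TypeM24.Unique
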