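import Cfsg.Agent.Lib.KnownB.TypeM24Unique.Top
import Cfsg.Agent.Lib.KnownB.TypeM24Unique.OutTwo

/-!
A member joined to `l` and to the end of the long arm of the ten.
-/

set_option autoImplicit false
set_option maxRecDepth 100000

namespace CfsgLib.KnownB.TypeM24.Unique

open Cfsg CfsgLib.ThreeTransp CfsgLib.Involutions
open CfsgLib.KnownB.TypeM22 CfsgLib.KnownB.TypeM22.Unique
open CfsgLib.KnownB.TypeM23 CfsgLib.KnownB.TypeM23.Unique
open CfsgLib.KnownB.Fi22Mult (edgeB val val_nil val_cons val_append)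

universe u

variable {G : Type u} [Group G] {D : Set G}

theorem edgeC_small : ∀ i < 9, ∀ j < 9, edgeC i j = edgeB i j := by decide

theorem edgeC_swap : ∀ i < 9, edgeC 9 (swap i) = Nat.beq i 0 := by decide

theorem swap_words : lettersIn [0, 1, 2, 3, 4, 5, 6, 7, 8] (wordAlt.map swap) = true ∧
    lettersIn [0, 1, 2, 3, 4, 5, 6, 7, 8] wordAlt = true := by decide +kernel

theorem val_conj_eq (h : G) (A B : ℕ → G) (v : List ℕ) (hv : ∀ i ∈ v, A i = h * B i * h⁻¹) :
    val A v = h * val B v * h⁻¹ := by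
  induction v with
  | nil => simp [val_nil]
  | cons a v ih =>
    rw [val_cons, val_cons, hv a (by simp), ih fun i hi => hv i (List.mem_cons_of_mem _ hi)]
    group

variable [Finite G]

/-- A conjugation seen in the quotient at a member. -/
theorem conj_lift (S : Setting23 D) {d : G} (hd : d ∈ D) {A B : ℕ → G} (hA : ∀ i, i < 9 → A i ∈ nb D d)
    (hB : ∀ i, i < 9 → B i ∈ nb D d) {h : Qd D d}
    (he : ∀ i, i < 9 → qd D d (A i) = h * qd D d (B i) * h⁻¹) :
    ∃ g, Commute g d ∧ ∀ i, i < 9 → A i = g * B i * g⁻¹ := by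
  obtain ⟨g, hg, rfl⟩ := qd_surj h
  refine ⟨g, (commute_closure_nb hg), fun i hi => ?_⟩
  have h1 : g * B i * g⁻¹ ∈ nb D d := TypeM22.conj_nb S.weak (commute_closure_nb hg) (hB i hi)
  exact S.qd_inj hd (hA i hi) h1 (by rw [he i hi, qd_conj hg (mem_H (hB i hi))])

/-- The images of nine partners of a member in the pattern. -/
theorem pattern_image (S : Setting23 D) {d : G} (hd : d ∈ D) {A : ℕ → G} (hA : ∀ i, i < 9 → A i ∈ nb D d)
    (hadj : ∀ i j, i < 9 → j < 9 → (Commute (A i) (A j) ↔ edgeB i j = false)) :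
    Pattern (Dq D d) fun i => qd D d (A i) :=
  ⟨fun i hi => qd_mem (hA i hi), fun i j hi hj e => (S.qd_comm hd (hA i hi) (hA j hj)).2 ((hadj i j hi hj).2 e),
    fun i j hi hj e h => by
      have := (hadj i j hi hj).1 ((S.qd_comm hd (hA i hi) (hA j hj)).1 h)
      rw [e] at this
      exact Bool.noConfusion this⟩

/-- The product of type E7 of the reflected ten is not trivial. -/
theorem Ten.swap_ne_one (S : Setting23 D) {d : G} {W : ℕ → G} (T : Ten D d W) :
    val W (wordAlt.map swap) ≠ 1 := by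
  obtain ⟨φ, hinj, hφ, -⟩ := T.exists_map S
  intro h1
  obtain ⟨w, hw⟩ : ∃ w : List Cfsg.Spor.Fi23.Gen, w = (List.replicate 9 [.g, .f, .e, .d, .c, .b, .h]).flatten :=
    ⟨_, rfl⟩
  have e : φ (w.map CfsgLib.Spor.Fi23.gen).prod = val W (wordAlt.map swap) := by
    rw [map_list_prod, List.map_map, show ⇑φ ∘ CfsgLib.Spor.Fi23.gen = fun x => W (num x) from funext hφ, hw]
    simp [wordAlt, swap, num, val, List.replicate_succ]
  have h2 : (w.map CfsgLib.Spor.Fi23.gen).prod = 1 := hinj (e.trans (h1.trans φ.map_one.symm))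
  have h3 := CfsgLib.Spor.Fi23.π_word w (CfsgLib.Spor.Fi23.Auto.gpt .j)
  rw [h2, map_one, Equiv.Perm.one_apply, hw] at h3
  revert h3
  decide +kernel

/-- The member joined to `l` and to the first of the ten. -/
theorem exists_bridge (S : Setting24 D) {l m : G} {W : ℕ → G} (T : Top D l m W) :
    ∃ k, k ∈ nb D m ∧ ¬ Commute k l ∧ ¬ Commute k (W 0) ∧ ∀ i, 1 ≤ i → i < 9 → Commute k (W i) := by
  have hl := T.hl
  have hm := T.hm.1
  have hlm : l ∈ nb D m := ⟨hl, T.hm.2.1.symm, T.hm.2.2.symm⟩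
  have Sm := S.quot hm
  have hql : qd D m l ∈ Dq D m := qd_mem hlm
  have hA : ∀ i, i < 9 → qd D m (W i) ∈ nb (Dq D m) (qd D m l) := fun i hi =>
    (S.pair_mem hm hlm (T.nine i hi)).2 ⟨T.nine i hi, T.mem i (by omega)⟩
  obtain ⟨W', T'⟩ := exists_ten Sm hql
  have P := pattern_image Sm hql (A := fun i => qd D m (W i)) hA fun i j hi hj => by
    rw [S.qd_comm hm (T.nine i hi) (T.nine j hj), T.adj i j (by omega) (by omega), edgeC_small i hi j hj]
  have P' := pattern_image Sm hql (A := W') T'.nine fun i j hi hj => by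
    rw [T'.adj i j (by omega) (by omega), edgeC_small i hi j hj]
  have hs : ∀ i, i < 9 → swap i < 9 := fun i hi => by unfold swap; split <;> omega
  have hlet : ∀ i ∈ wordAlt, i < 9 := fun i hi => by
    have := letters_spec swap_words.2 i hi
    simp only [List.mem_cons, List.not_mem_nil, or_false] at this
    omega
  have halt : val (fun i => qd D m (W i)) wordAlt = qd D m l := by
    rw [← (qd_val fun i hi => mem_H (T.nine i (hlet i hi))).2, T.alt_eq S]
  rcases pattern_cases (Sm.quot hql) P P' with ⟨h, he⟩ | ⟨h, he⟩ | ⟨h, he⟩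
  · exfalso
    obtain ⟨g, -, hg⟩ := conj_lift Sm hql hA T'.nine he
    have := val_conj_eq g _ _ wordAlt fun i hi => hg i (hlet i hi)
    rw [halt, T'.alt, mul_one, mul_inv_cancel] at this
    exact Sm.cls.not_mem_center hql (this ▸ one_mem _)
  · exfalso
    obtain ⟨g, -, hg⟩ := conj_lift Sm hql (A := fun i => W' (swap i)) (fun i hi => T'.nine _ (hs i hi)) T'.nine he
    have := val_conj_eq g _ _ wordAlt fun i hi => hg i (hlet i hi)
    rw [val_map_swap, T'.alt, mul_one, mul_inv_cancel] at this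
    exact T'.swap_ne_one Sm this
  · obtain ⟨g, hgl, hg⟩ := conj_lift Sm hql hA (B := fun i => W' (swap i)) (fun i hi => T'.nine _ (hs i hi)) he
    obtain ⟨k, hk, ek⟩ := dq_exists (Sm.cls.conj g _ (T'.mem 9 (by norm_num)))
    have hcomm : ∀ i, i < 9 → (Commute k (W i) ↔ Nat.beq i 0 = false) := fun i hi => by
      rw [← S.qd_comm hm hk (T.nine i hi), ek, hg i hi, commute_conj_iff,
        T'.adj 9 (swap i) (by norm_num) (by have := hs i hi; omega), edgeC_swap i hi]
    refine ⟨k, hk, fun c => T'.last ?_, fun c => ?_, fun i h1 hi => (hcomm i hi).2 ?_⟩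
    · have := (S.qd_comm hm hk hlm).2 c
      rw [ek, ← conj_eq_of_commute hgl, commute_conj_iff] at this
      exact this.symm
    · exact Bool.noConfusion ((hcomm 0 (by norm_num)).1 c)
    · rw [← Bool.not_eq_true, Nat.beq_eq]; omega

end CfsgLib.KnownB.TypeM24.Unique
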