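import Cfsg.Agent.Lib.Base.Cores
import Mathlib.GroupTheory.Nilpotent

/-!
A group whose largest normal `p`-subgroup is central has none in its central quotient.
-/

set_option autoImplicit false

namespace CfsgLib.KnownB.TypeM24.Unique

open Cfsg

theorem pCore_quot_center_bot {X : Type*} [Group X] [Finite X] {p : ℕ} [hp : Fact p.Prime]
    (h : pCore p X ≤ Subgroup.center X) : pCore p (X ⧸ Subgroup.center X) = ⊥ := by
  obtain ⟨P, hP⟩ : ∃ P, P = (pCore p (X ⧸ Subgroup.center X)).comap (QuotientGroup.mk' _) := ⟨_, rfl⟩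
  haveI : P.Normal := hP ▸ (inferInstance : (pCore p (X ⧸ Subgroup.center X)).Normal).comap _
  obtain ⟨f, hf⟩ : ∃ f : P →* pCore p (X ⧸ Subgroup.center X), ∀ x, (f x : X ⧸ Subgroup.center X) = QuotientGroup.mk (x : X) :=
    ⟨((QuotientGroup.mk' _).comp P.subtype).codRestrict _ fun x => hP.le x.2, fun _ => rfl⟩
  have hker : f.ker ≤ Subgroup.center P := fun x hx => by
    have h1 : (x : X) ∈ Subgroup.center X := by
      rw [← QuotientGroup.eq_one_iff, ← hf, MonoidHom.mem_ker.1 hx]; rfl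
    exact Subgroup.mem_center_iff.2 fun y => Subtype.ext (Subgroup.mem_center_iff.1 h1 y)
  haveI : Group.IsNilpotent (pCore p (X ⧸ Subgroup.center X)) := (Base.isPGroup_pCore p _).isNilpotent
  haveI : Group.IsNilpotent P := Subgroup.isNilpotent_of_ker_le_center f hker
  obtain ⟨Q⟩ := (inferInstance : Nonempty (Sylow p P))
  haveI hQn : (Q : Subgroup P).Normal :=
    inferInstance
  have hQ : ∀ x ∈ (Q : Subgroup P), (x : X) ∈ Subgroup.center X := fun x hx => h <| by
    have := Subgroup.mem_map_of_mem P.subtype (Base.le_pCore Q.2 hx)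
    rw [Base.map_pCore_eq_inf] at this
    exact this.1
  rw [Subgroup.eq_bot_iff_forall]
  intro q hq
  obtain ⟨x, rfl⟩ := QuotientGroup.mk_surjective q
  obtain ⟨k, hk⟩ := Base.isPGroup_pCore p (X ⧸ Subgroup.center X) ⟨_, hq⟩
  have h1 : x ^ (p ^ k) ∈ Subgroup.center X := by
    rw [← QuotientGroup.eq_one_iff, QuotientGroup.mk_pow]
    exact congrArg Subtype.val hk
  have h2 : x ^ (Q : Subgroup P).index ∈ Subgroup.center X := by
    exact hQ _ (Subgroup.pow_index_mem (Q : Subgroup P) (⟨x, hP ▸ hq⟩ : P))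
  have hco : Nat.Coprime (p ^ k) (Q : Subgroup P).index :=
    Nat.Coprime.pow_left k ((Nat.Prime.coprime_iff_not_dvd hp.out).2 Q.not_dvd_index)
  have e := Nat.gcd_eq_gcd_ab (p ^ k) (Q : Subgroup P).index
  rw [hco] at e
  refine (QuotientGroup.eq_one_iff x).2 ?_
  have : x = (x ^ (p ^ k)) ^ (Nat.gcdA (p ^ k) (Q : Subgroup P).index) *
      (x ^ (Q : Subgroup P).index) ^ (Nat.gcdB (p ^ k) (Q : Subgroup P).index) := by
    rw [← zpow_natCast x (p ^ k), ← zpow_natCast x (Q : Subgroup P).index, ← zpow_mul, ← zpow_mul, ← zpow_add, ← e]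
    simp
  rw [this]
  exact mul_mem (zpow_mem h1 _) (zpow_mem h2 _)

end CfsgLib.KnownB.TypeM24.Unique
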