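import Cfsg.Agent.Lib.ThreeTransp.ProductUnique
import Cfsg.Agent.Lib.ThreeTransp.ReflThree

/-!
A group of type M(23) has no nontrivial normal 2-subgroup, without assuming primitivity.
-/

set_option autoImplicit false

namespace CfsgLib.ThreeTransp

open Cfsg CfsgLib.Involutions

variable {G : Type*} [Group G] [Finite G] {D : Set G}

/-- The shape of the centraliser data separates twins. -/
theorem WeakTS.twin_free_of_cores (hW : WeakTS D) (hZ : Subgroup.center G = ⊥) {d c : G} (hd : d ∈ D)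
    (hc : c ∈ D) (hdc : ¬ Commute d c)
    (h2X : pCore 2 (Subgroup.closure (nb D d)) ≤ Subgroup.center (Subgroup.closure (nb D d)))
    (hZX : Subgroup.center (Subgroup.closure (nb D d) ⧸ Subgroup.center (Subgroup.closure (nb D d))) = ⊥)
    (hL : ¬ Nonempty ((Subgroup.closure (nb D d ∩ nb D c) ⧸
      Subgroup.center (Subgroup.closure (nb D d ∩ nb D c))) ≃*
      (Subgroup.closure (nb D d) ⧸ Subgroup.center (Subgroup.closure (nb D d)))))
    {x y : G} (hx : x ∈ D) (hy : y ∈ D) (htw : ∀ z ∈ D, Commute x z ↔ Commute y z) : x = y := by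
  classical
  by_contra hxy
  have hcent : ∀ {a : G}, (∀ z ∈ D, Commute a z) → a = 1 := fun h => by
    have := hW.mem_center h
    rwa [hZ, Subgroup.mem_bot] at this
  obtain ⟨w, hw, hxw⟩ : ∃ w ∈ D, ¬ Commute x w := by
    by_contra h
    push Not at h
    exact hxy ((hcent h).trans (hcent fun z hz => (htw z hz).1 (h z hz)).symm)
  set E := nb D d with hE
  set X := Subgroup.closure E
  have hWX : WeakTS (inClosure E) := hW.sub d
  set R : Set G := {r | ∃ h : r ∈ E, (⟨r, Subgroup.subset_closure h⟩ : X) ∉ Subgroup.center X}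
  set O : Set G := {o | ∃ g : G, g * x * g⁻¹ = o}
  have hxO : x ∈ O := ⟨1, by simp⟩
  have hOconj : ∀ g : G, ∀ o ∈ O, g * o * g⁻¹ ∈ O := by
    rintro g _ ⟨k, rfl⟩; exact ⟨g * k, by group⟩
  have hOD : ∀ o ∈ O, o ∈ D := by rintro _ ⟨g, rfl⟩; exact hW.conj g x hx
  have hOnc : ∀ {o z : G}, o ∈ O → z ∈ D → ¬ Commute o z → z ∈ O := by
    intro o z ho hz h
    obtain ⟨g, hg⟩ := hW.conj_of_not_commute (hOD o ho) hz h
    exact hg ▸ hOconj g o ho
  -- every member of `O` has a twin
  have hOtw : ∀ o ∈ O, ∃ o' ∈ D, o' ≠ o ∧ ∀ z ∈ D, Commute o z ↔ Commute o' z := by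
    rintro _ ⟨g, rfl⟩
    refine ⟨g * y * g⁻¹, hW.conj g y hy, fun h => hxy (mul_left_cancel (mul_right_cancel h)).symm,
      fun z hz => ?_⟩
    have hz' : z = g * (g⁻¹ * z * g) * g⁻¹ := by group
    rw [hz', commute_conj_iff, commute_conj_iff]
    exact htw _ (by simpa using hW.conj g⁻¹ z hz)
  by_cases hRO : ∃ r ∈ R, r ∈ O
  · obtain ⟨r, ⟨hrE, hrc⟩, hrO⟩ := hRO
    obtain ⟨r', hr'D, hne, hr'⟩ := hOtw r hrO
    have hr'd : r' ≠ d := by
      intro h
      refine hrc (hWX.mem_center fun z hz => ?_)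
      refine Subtype.ext ((hr' _ hz.1).2 ?_).eq
      exact h ▸ (hz.2.2 : Commute d _)
    have hr'E : r' ∈ E := ⟨hr'D, hr'd, ((hr' d hd).1 hrE.2.2.symm).symm⟩
    have := hWX.twin_eq h2X (x := ⟨r, Subgroup.subset_closure hrE⟩)
      (y := ⟨r', Subgroup.subset_closure hr'E⟩) hrE hr'E hrc fun z hz =>
        ⟨fun h => Subtype.ext ((hr' _ hz.1).1 (congrArg Subtype.val h.eq)).eq,
          fun h => Subtype.ext ((hr' _ hz.1).2 (congrArg Subtype.val h.eq)).eq⟩
    exact hne (congrArg Subtype.val this).symm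
  push Not at hRO
  have hRc : ∀ r ∈ R, ∀ o ∈ O, Commute r o := fun r hr o ho => by
    by_contra h
    exact hRO r hr (hOnc ho hr.1.1 fun e => h e.symm)
  by_cases hdO : d ∈ O
  · have hcO : c ∈ O := hOnc hdO hc hdc
    set L := Subgroup.closure (nb D d ∩ nb D c)
    have hLX : L ≤ X := Subgroup.closure_mono Set.inter_subset_left
    let φ : L →* X ⧸ Subgroup.center X :=
      (QuotientGroup.mk' (Subgroup.center X)).comp (Subgroup.inclusion hLX)
    have hφ : Function.Surjective φ := by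
      rw [← MonoidHom.range_eq_top, eq_top_iff]
      rw [← MonoidHom.range_eq_top.2 (QuotientGroup.mk'_surjective (Subgroup.center X)),
        MonoidHom.range_eq_map, ← hWX.gen, MonoidHom.map_closure, Subgroup.closure_le]
      rintro _ ⟨z, hz, rfl⟩
      by_cases hzc : z ∈ Subgroup.center X
      · refine ⟨1, ?_⟩
        rw [map_one]
        exact ((QuotientGroup.eq_one_iff z).2 hzc).symm
      · have hzR : (z : G) ∈ R := ⟨hz, hzc⟩
        exact ⟨⟨z, Subgroup.subset_closure ⟨hz, hz.1, fun h => hRO _ hzR (h ▸ hcO),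
          (hRc _ hzR c hcO).symm⟩⟩, rfl⟩
    have hker : φ.ker = Subgroup.center L := by
      ext l
      rw [MonoidHom.mem_ker]
      constructor
      · intro h
        have hl : Subgroup.inclusion hLX l ∈ Subgroup.center X := (QuotientGroup.eq_one_iff _).1 h
        refine Subgroup.mem_center_iff.2 fun m => ?_
        exact Subgroup.inclusion_injective hLX (by
          rw [map_mul, map_mul]; exact Subgroup.mem_center_iff.1 hl _)
      · intro h
        have hl : φ l ∈ Subgroup.center (X ⧸ Subgroup.center X) := Subgroup.mem_center_iff.2 fun q => by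
          obtain ⟨m, rfl⟩ := hφ q
          rw [← map_mul, ← map_mul, Subgroup.mem_center_iff.1 h m]
        rwa [hZX, Subgroup.mem_bot] at hl
    exact hL ⟨(QuotientGroup.quotientMulEquivOfEq hker.symm).trans
      (QuotientGroup.quotientKerEquivOfSurjective φ hφ)⟩
  · have hOE : ∀ o ∈ O, o ∈ E := fun o ho => ⟨hOD o ho, fun h => hdO (h ▸ ho), by
      by_contra h
      exact hdO (hOnc ho hd fun e => h e.symm)⟩
    have hwO : w ∈ O := hOnc hxO hw hxw
    have hxc : (⟨x, Subgroup.subset_closure (hOE x hxO)⟩ : X) ∈ Subgroup.center X := by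
      by_contra h; exact hRO x ⟨hOE x hxO, h⟩ hxO
    exact hxw (congrArg Subtype.val (Subgroup.mem_center_iff.1 hxc
      ⟨w, Subgroup.subset_closure (hOE w hwO)⟩)).symm

theorem two_pow_not_dvd_refl_seven {X : Type*} [Group X] {μ c : ZMod 3}
    (h : IsProjReflectionGroupModThree X 7 μ c) : ¬ 2 ^ 15 ∣ Nat.card X := by
  obtain ⟨Q, -, -, ⟨e⟩⟩ := h
  intro hd
  rw [Nat.card_congr e.toEquiv] at hd
  have h1 := hd.trans ((Subgroup.card_quotient_dvd_card _).trans
    ((Subgroup.card_subgroup_dvd_card _).trans (Subgroup.card_subgroup_dvd_card _)))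
  rw [Matrix.card_GL_field, Fin.prod_univ_seven, ZMod.card] at h1
  norm_num at h1

omit [Finite G] in
theorem two_pow_dvd_of_typeM22 (h : IsOfTypeM22 G D) : 2 ^ 15 ∣ Nat.card G := by
  obtain ⟨-, d, -, c, -, -, ⟨F, _, _, hF, ⟨e⟩⟩, -⟩ := h
  obtain ⟨-, -, hdvd⟩ := psu_six_simple hF
  exact (hdvd.trans (Nat.card_congr e.toEquiv).symm.dvd).trans
    ((Subgroup.card_quotient_dvd_card _).trans (Subgroup.card_subgroup_dvd_card _))

omit [Finite G] in
theorem two_pow_dvd_of_typeM23 (h : IsOfTypeM23 G D) : 2 ^ 15 ∣ Nat.card G := by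
  obtain ⟨-, d, -, c, -, -, hU, -⟩ := h
  exact (two_pow_dvd_of_typeM22 hU).trans
    ((Subgroup.card_quotient_dvd_card _).trans (Subgroup.card_subgroup_dvd_card _))

omit [Finite G] in
theorem two_pow_dvd_of_typeM24 (h : IsOfTypeM24 G D) : 2 ^ 15 ∣ Nat.card G := by
  obtain ⟨-, d, -, c, -, -, hU, -⟩ := h
  exact (two_pow_dvd_of_typeM23 hU).trans
    ((Subgroup.card_quotient_dvd_card _).trans (Subgroup.card_subgroup_dvd_card _))

theorem pCore_bot_of_typeM23 (hW : WeakTS D) (h : IsOfTypeM23 G D) : pCore 2 G = ⊥ := by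
  obtain ⟨hZ, d, hd, c, hc, hdc, hU, c3, -, hR⟩ := h
  refine hW.pCore_bot_of_twin_free hZ fun hx hy htw => hW.twin_free_of_cores hZ hd hc hdc
    (pCore_le_center_of_quot (pCore_bot_of_typeM22 ((hW.sub d).quot _) hU)) hU.1
    (fun ⟨i⟩ => two_pow_not_dvd_refl_seven hR ?_) hx hy htw
  exact Nat.card_congr i.toEquiv ▸ two_pow_dvd_of_typeM22 hU

end CfsgLib.ThreeTransp
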