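import Cfsg.Agent.Lib.KnownB.TypeM24Unique.TreeData
import Cfsg.Agent.Lib.KnownB.TypeM23Unique.Search

/-!
The checks for the end of the short path.
-/

set_option autoImplicit false
set_option maxRecDepth 100000

namespace CfsgLib.KnownB.TypeM24.Unique

open CfsgLib.Spor (QField)
open CfsgLib.KnownB.TypeM22
open CfsgLib.KnownB.TypeM22.Unique (mask mv)
open CfsgLib.KnownB.TypeM23.Unique (check noneOK)

theorem treeJoin2_ok : check noneOK treeJoin2 (mask [1, 1344, 4, 256, 1024, 1282], mask [20]) = true := by
  decide +kernel

theorem treeJoin3_ok : check noneOK treeJoin3 (mask [1, 1344, 4, 256, 1024, 1283], mask [20]) = true := by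
  decide +kernel

theorem join_loc : TypeM22.Unique.locOK
    [(1, true), (256, true), (20, true), (1024, true), (1344, false), (4, false)] [1281, 1282, 1283] = true := by
  decide +kernel

theorem join_one : decide (bform qsig (qvec 1344) (qvec (mv 4 1281)) = 0) = true := by decide +kernel

end CfsgLib.KnownB.TypeM24.Unique
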