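import Cfsg.Agent.Lib.KnownB.TypeM24Unique.Top
import Cfsg.Agent.Lib.Spor.Fi23.OutPoints

/-!
A conjugate of the second of the ten, located by its commutations.
-/

set_option autoImplicit false
set_option maxRecDepth 100000

namespace CfsgLib.KnownB.TypeM24.Unique

open Cfsg CfsgLib.ThreeTransp CfsgLib.Involutions
open CfsgLib.KnownB.TypeM22 CfsgLib.KnownB.TypeM22.Unique
open CfsgLib.KnownB.TypeM23 CfsgLib.KnownB.TypeM23.Unique
open CfsgLib.KnownB.Fi22Mult (val val_nil val_cons val_append)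
open CfsgLib.Spor.Fi23 (gen idx π π_gen π_word)
open CfsgLib.Spor.Fi23.Auto (gpt dq dq_gpt conj_dq comm_dq_iff dq_i₀)

universe u

/-- The letters of the conjugation. -/
def cGens : List Cfsg.Spor.Fi23.Gen := [.e, .d, .h, .i, .c, .d, .h, .e, .d, .c]

/-- Their numbers in the ten. -/
def cNums : List ℕ := [4, 3, 7, 8, 2, 3, 7, 4, 3, 2]

theorem cNums_eq : cGens.map num = cNums := rfl

variable {G : Type u} [Group G] {D : Set G}

/-- The conjugate. -/
def theta (W : ℕ → G) : G := val W cNums * W 1 * (val W cNums)⁻¹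

/-- The point of the conjugate. -/
noncomputable def thetaPt : Fin CfsgLib.Spor.Fi23.Perm.data.n := π (cGens.map gen).prod (gpt .b)

theorem thetaPt_val : (thetaPt : ℕ) = 5262 := by
  rw [thetaPt, π_word]
  decide +kernel

theorem theta_comm : ∀ x : Cfsg.Spor.Fi23.Gen, π (gen x) thetaPt = thetaPt ↔
    (x ≠ .a ∧ x ≠ .e ∧ x ≠ .f) := by
  have key : ∀ x : Cfsg.Spor.Fi23.Gen, CfsgLib.Spor.Fi23.Perm.data.img (idx x) 5262 = 5262 ↔
      (x ≠ .a ∧ x ≠ .e ∧ x ≠ .f) := by intro x; cases x <;> decide +kernel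
  intro x
  rw [← key x, Fin.ext_iff, π_gen, thetaPt_val]

theorem theta_z : π CfsgLib.Spor.Fi23.z thetaPt = thetaPt := by
  rw [Fin.ext_iff, CfsgLib.Spor.Fi23.π_z, thetaPt_val]
  decide +kernel

theorem theta_move : π (gen .e) (π (gen .f) thetaPt) ≠ π (gen .f) thetaPt := by
  rw [Ne, Fin.ext_iff, π_gen, π_gen, thetaPt_val]
  decide +kernel

variable [Finite G]

theorem Top.theta_mem (S : Setting24 D) {l m : G} {W : ℕ → G} (T : Top D l m W) :
    theta W ∈ nb D l ∧ ∀ y ∈ nb D l, ∀ u : Cfsg.Spor.Fi23, (∀ φ : Cfsg.Spor.Fi23 →* Qd D l,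
      (∀ x, φ (gen x) = qd D l (W (num x))) → φ CfsgLib.Spor.Fi23.z = qd D l m → φ u = qd D l y) →
      (Commute y (theta W) ↔ π u thetaPt = thetaPt) := by
  have hH : ∀ i ∈ cNums, W i ∈ Subgroup.closure (nb D l) := fun i hi =>
    mem_H (T.mem i ((by decide : ∀ i ∈ cNums, i < 10) i hi))
  obtain ⟨hc, hqc⟩ := qd_val hH
  have hth : theta W ∈ nb D l := TypeM22.conj_nb S.weak (commute_closure_nb hc) (T.mem 1 (by norm_num))
  obtain ⟨φ, hinj, hφ, hz⟩ := T.ten.exists_map (S.quot T.hl)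
  have hθ : φ (dq thetaPt) = qd D l (theta W) := by
    rw [thetaPt, ← conj_dq, dq_gpt, map_mul, map_mul, map_inv, hφ, map_list_prod, List.map_map,
      show ⇑φ ∘ gen = fun x => qd D l (W (num x)) from funext hφ, theta,
      qd_conj hc (mem_H (T.mem 1 (by norm_num))), hqc, val, ← cNums_eq, List.map_map]
    rfl
  refine ⟨hth, fun y hy u hu => ?_⟩
  rw [← S.qd_comm T.hl hy hth, ← hu φ hφ hz, ← hθ, ← comm_dq_iff]
  exact ⟨fun h => hinj (by rw [map_mul, map_mul]; exact h.eq), fun h => (show Commute u (dq thetaPt) from h).map φ⟩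

end CfsgLib.KnownB.TypeM24.Unique
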