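import Cfsg.Agent.Lib.KnownB.TypeM24Unique.Bridge
import Cfsg.Agent.Lib.KnownB.TypeM24Unique.Theta
import Cfsg.Agent.Lib.KnownB.TypeM24Unique.JoinCheck

/-!
The bridge commutes with the end of the short path.
-/

set_option autoImplicit false
set_option maxRecDepth 100000

namespace CfsgLib.KnownB.TypeM24.Unique

open Cfsg CfsgLib.Classical.Unitary CfsgLib.ThreeTransp CfsgLib.ThreeTransp.USix CfsgLib.Involutions
open CfsgLib.Spor (QField)
open CfsgLib.KnownB.TypeM22 CfsgLib.KnownB.TypeM22.Unique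
open CfsgLib.KnownB.TypeM23 CfsgLib.KnownB.TypeM23.Unique
open CfsgLib.KnownB.Fi22Mult (val val_nil val_cons val_append)
open CfsgLib.Spor.Fi23 (gen π)

universe u

variable {G : Type u} [Group G] [Finite G] {D : Set G}

/-- The image in the quotient at a member and then at the image of another. -/
noncomputable def qq (D : Set G) (b i y : G) : Qd (Dq D b) (qd D b i) := qd (Dq D b) (qd D b i) (qd D b y)

theorem qq_spec (S : Setting24 D) {b i : G} (hb : b ∈ D) (hi : i ∈ nb D b) :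
    (∀ y ∈ nb D b ∩ nb D i, qq D b i y ∈ Dq (Dq D b) (qd D b i)) ∧
    (∀ y ∈ nb D b ∩ nb D i, ∀ z ∈ nb D b ∩ nb D i, (Commute (qq D b i y) (qq D b i z) ↔ Commute y z) ∧
      (y ≠ z → qq D b i y ≠ qq D b i z)) ∧
    ∀ y ∈ nb D b ∩ nb D i, ∀ z ∈ nb D b ∩ nb D i, y * z * y ∈ nb D b ∩ nb D i ∧
      qq D b i (y * z * y) = qq D b i y * qq D b i z * qq D b i y := by
  have S1 := S.quot hb
  have hm : ∀ y ∈ nb D b ∩ nb D i, qd D b y ∈ nb (Dq D b) (qd D b i) := fun y hy => (S.pair_mem hb hi hy.1).2 hy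
  refine ⟨fun y hy => qd_mem (hm y hy), fun y hy z hz => ⟨?_, fun hne e => hne ?_⟩, fun y hy z hz => ⟨?_, ?_⟩⟩
  · rw [qq, qq, S1.qd_comm (qd_mem hi) (hm y hy) (hm z hz), S.qd_comm hb hy.1 hz.1]
  · exact S.qd_inj hb hy.1 hz.1 (S1.qd_inj (qd_mem hi) (hm y hy) (hm z hz) e)
  · refine ⟨?_, ?_⟩
    · have := S.weak.nb_conj y hz.1
      rwa [conj_eq_of_commute hy.1.2.2.symm, S.weak.inv hy.1.1] at this
    · have := S.weak.nb_conj y hz.2
      rwa [conj_eq_of_commute hy.2.2.2.symm, S.weak.inv hy.1.1] at this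
  · simp only [qq]
    have h1 := mem_H (hm y hy)
    have h2 := mem_H (hm z hz)
    rw [qd_mul (mul_mem (mem_H hy.1) (mem_H hz.1)) (mem_H hy.1), qd_mul (mem_H hy.1) (mem_H hz.1),
      qd_mul (mul_mem h1 h2) h1, qd_mul h1 h2]

theorem Top.theta_facts (S : Setting24 D) {l m : G} {W : ℕ → G} (T : Top D l m W) :
    (∀ x : Cfsg.Spor.Fi23.Gen, Commute (W (num x)) (theta W) ↔ (x ≠ .a ∧ x ≠ .e ∧ x ≠ .f)) ∧
      Commute m (theta W) ∧ ¬ Commute (W 4) (W 5 * theta W * W 5) := by
  obtain ⟨-, hkey⟩ := T.theta_mem S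
  have hW := S.weak
  refine ⟨fun x => ?_, ?_, fun hc => theta_move ?_⟩
  · rw [hkey _ (T.mem _ (num_lt x)) (gen x) fun φ hφ _ => hφ x, theta_comm x]
  · exact (hkey _ T.hm CfsgLib.Spor.Fi23.z fun φ _ hz => hz).2 theta_z
  · have h4 := T.mem 4 (by norm_num)
    have h5 := T.mem 5 (by norm_num)
    have hy : W 5 * W 4 * W 5 ∈ nb D l := by
      have := S.weak.nb_conj (W 5) h4
      rwa [conj_eq_of_commute h5.2.2.symm, hW.inv h5.1] at this
    have hc' : Commute (W 5 * W 4 * W 5) (theta W) := by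
      have := (commute_conj_iff (W 5)).2 hc
      rw [hW.inv h5.1] at this
      rwa [show W 5 * (W 5 * theta W * W 5) * W 5 = W 5 * W 5 * theta W * (W 5 * W 5) by group,
        hW.sq _ h5.1, one_mul, mul_one] at this
    have h1 := (hkey _ hy (gen .f * gen .e * gen .f) fun φ hφ _ => by
      rw [map_mul, map_mul, hφ, hφ, qd_mul (mul_mem (mem_H h5) (mem_H h4)) (mem_H h5), qd_mul (mem_H h5) (mem_H h4)]
      rfl).1 hc'
    rw [map_mul, map_mul, Equiv.Perm.mul_apply, Equiv.Perm.mul_apply] at h1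
    have h2 := congrArg (π (gen .f)) h1
    rwa [← Equiv.Perm.mul_apply, ← map_mul, CfsgLib.Spor.Fi23.gen_sq, map_one, Equiv.Perm.one_apply] at h2

/-- The bridge commutes with the last of the ten. -/
theorem bridge_last (S : Setting24 D) {l m : G} {W : ℕ → G} (T : Top D l m W) {k : G} (hk : k ∈ nb D m)
    (hkl : ¬ Commute k l) (hk1 : ∀ i, 1 ≤ i → i < 9 → Commute k (W i)) : Commute k (W 9) := by
  by_contra hno
  obtain ⟨hth, -⟩ := T.theta_mem S
  obtain ⟨hθc, hθm, hθf⟩ := T.theta_facts S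
  have hl := T.hl
  have hmem : ∀ i, i < 10 → W i ∈ D := fun i hi => (T.mem i hi).1
  have hc : ∀ {i j}, i < 10 → j < 10 → edgeC i j = false → Commute (W i) (W j) := fun hi hj e => (T.adj _ _ hi hj).2 e
  have hn : ∀ {i j}, i < 10 → j < 10 → edgeC i j = true → ¬ Commute (W i) (W j) := fun hi hj e h => by
    have := (T.adj _ _ hi hj).1 h
    rw [e] at this
    exact Bool.noConfusion this
  obtain ⟨b, hbd⟩ : ∃ b, b = W 1 := ⟨_, rfl⟩
  obtain ⟨i, hid⟩ : ∃ i, i = W 8 := ⟨_, rfl⟩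
  have hb : b ∈ D := hbd ▸ hmem 1 (by norm_num)
  have hbi : i ∈ nb D b := by
    subst hbd hid
    exact nb_of_third (w := W 7) (hmem 8 (by norm_num)) (hc (by norm_num) (by norm_num) (by decide))
      (hc (by norm_num) (by norm_num) (by decide)) (hn (by norm_num) (by norm_num) (by decide))
  have both : ∀ {y w : G}, y ∈ D → Commute b y → Commute i y → Commute b w → Commute i w → ¬ Commute y w →
      y ∈ nb D b ∩ nb D i := fun hy c1 c2 c3 c4 n => ⟨nb_of_third hy c1 c3 n, nb_of_third hy c2 c4 n⟩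
  have bl : Commute b l := by rw [hbd]; exact (T.mem 1 (by norm_num)).2.2.symm
  have il : Commute i l := by rw [hid]; exact (T.mem 8 (by norm_num)).2.2.symm
  have bk : Commute b k := by rw [hbd]; exact (hk1 1 le_rfl (by norm_num)).symm
  have ik : Commute i k := by rw [hid]; exact (hk1 8 (by norm_num) (by norm_num)).symm
  have bW : ∀ j, j < 10 → edgeC 1 j = false → Commute b (W j) := fun j hj e => hbd ▸ hc (by norm_num) hj e
  have iW : ∀ j, j < 10 → edgeC 8 j = false → Commute i (W j) := fun j hj e => hid ▸ hc (by norm_num) hj e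
  have Ml : l ∈ nb D b ∩ nb D i := both hl bl il bk ik fun h => hkl h.symm
  have Mk : k ∈ nb D b ∩ nb D i := both hk.1 bk ik bl il hkl
  have MW : ∀ j w, j < 10 → w < 10 → edgeC 1 j = false → edgeC 8 j = false → edgeC 1 w = false →
      edgeC 8 w = false → edgeC j w = true → W j ∈ nb D b ∩ nb D i := fun j w hj hw a1 a2 a3 a4 a5 =>
    both (hmem j hj) (bW j hj a1) (iW j hj a2) (bW w hw a3) (iW w hw a4) (hn hj hw a5)
  have Mm : m ∈ nb D b ∩ nb D i := both T.hm.1 (hbd ▸ (T.nine 1 (by norm_num)).2.2.symm)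
    (hid ▸ (T.nine 8 (by norm_num)).2.2.symm) (bW 9 (by norm_num) (by decide)) (iW 9 (by norm_num) (by decide)) T.last
  have Mt : theta W ∈ nb D b ∩ nb D i := both hth.1 (hbd ▸ (hθc .b).2 (by decide)) (hid ▸ (hθc .i).2 (by decide))
    (bW 4 (by norm_num) (by decide)) (iW 4 (by norm_num) (by decide))
    fun h => absurd ((hθc .e).1 h.symm).2.1 (by decide)
  obtain ⟨hq1, hq2, hq3⟩ := qq_spec S hb hbi
  have S2 := (S.quot hb).quot (qd_mem hbi)
  obtain ⟨F, _, _, σ, hF, hσ, hP⟩ := S2.exists_pmap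
  obtain ⟨e⟩ := exists_coord hF
  have ha := hq1 l Ml
  have hb' := hq1 k Mk
  have hab : ¬ Commute (qq D b i l) (qq D b i k) := fun h => hkl ((hq2 l Ml k Mk).1.1 h).symm
  obtain ⟨f, P⟩ := hP _ ha
  have hpn : ∀ y ∈ nb D b ∩ nb D i, y ∈ nb D l → qq D b i y ∈ nb (Dq (Dq D b) (qd D b i)) (qq D b i l) :=
    fun y hy hyl => ⟨hq1 y hy, (hq2 y hy l Ml).2 hyl.2.1, (hq2 l Ml y hy).1.2 hyl.2.2⟩
  obtain ⟨pa, hpa⟩ : ∃ pa : Fin 6 → G, pa = ![W 3, W 4, W 5, W 6, W 9, m] := ⟨_, rfl⟩
  have hpm : ∀ j, pa j ∈ nb D b ∩ nb D i ∧ pa j ∈ nb D l := by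
    intro j; subst hpa; fin_cases j
    exacts [⟨MW 3 4 (by norm_num) (by norm_num) (by decide) (by decide) (by decide) (by decide) (by decide), T.mem 3 (by norm_num)⟩,
      ⟨MW 4 5 (by norm_num) (by norm_num) (by decide) (by decide) (by decide) (by decide) (by decide), T.mem 4 (by norm_num)⟩,
      ⟨MW 5 4 (by norm_num) (by norm_num) (by decide) (by decide) (by decide) (by decide) (by decide), T.mem 5 (by norm_num)⟩,
      ⟨MW 6 9 (by norm_num) (by norm_num) (by decide) (by decide) (by decide) (by decide) (by decide), T.mem 6 (by norm_num)⟩,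
      ⟨MW 9 6 (by norm_num) (by norm_num) (by decide) (by decide) (by decide) (by decide) (by decide), T.mem 9 (by norm_num)⟩,
      ⟨Mm, T.hm⟩]
  have hadj : ∀ j j' : Fin 6, j ≠ j' → (Commute (pa j) (pa j') ↔ adj6 j j' = false) := by
    obtain ⟨p, hp⟩ : ∃ p : Fin 5 → ℕ, p = ![3, 4, 5, 6, 9] := ⟨_, rfl⟩
    have hp10 : ∀ j, p j < 10 := by subst hp; decide
    have h5 : ∀ j : Fin 5, pa j.castSucc = W (p j) := by intro j; subst hpa hp; fin_cases j <;> rfl
    have hlast : pa (Fin.last 5) = m := by subst hpa; rfl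
    have he : ∀ j j' : Fin 5, edgeC (p j) (p j') = adj6 j.castSucc j'.castSucc := by subst hp; decide
    have hm6 : ∀ j : Fin 5, Commute (W (p j)) m ↔ adj6 j.castSucc (Fin.last 5) = false := by
      intro j; subst hp; fin_cases j
      all_goals first
        | exact iff_of_true (T.nine _ (by norm_num)).2.2.symm (by decide)
        | exact iff_of_false (fun h => T.last h.symm) (by decide)
    have hsy : ∀ j j' : Fin 6, adj6 j j' = adj6 j' j := by decide
    intro j j' hne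
    induction j using Fin.lastCases with
    | last =>
      induction j' using Fin.lastCases with
      | last => exact absurd rfl hne
      | cast j' => rw [hlast, h5, Commute.symm_iff, hsy, hm6]
    | cast j =>
      induction j' using Fin.lastCases with
      | last => rw [hlast, h5, hm6]
      | cast j' => rw [h5, h5, T.adj _ _ (hp10 j) (hp10 j'), he]
  obtain ⟨r, s, H, hpt⟩ := path_frame P S2.weak e (q := fun j => qq D b i (pa j))
    (fun j => hpn _ (hpm j).1 (hpm j).2) fun j j' hne => (hq2 _ (hpm j).1 _ (hpm j').1).1.trans (hadj j j' hne)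
  have pt : ∀ j : Fin 6, IsPt hF hσ f (qq D b i (pa j)) (vq e r s (qvec (TypeM22.Unique.std.getD j.val 0))) := hpt
  subst hpa
  have tc : ∀ {y}, y ∈ nb D b ∩ nb D i → (Commute (qq D b i (theta W)) (qq D b i y) ↔ Commute y (theta W)) :=
    fun hy => (hq2 _ Mt _ hy).1.trans Commute.symm_iff
  obtain ⟨c, hcL, pc⟩ := locate P S2.weak H (hpn _ Mt hth) join_loc (by
    intro t ht
    simp only [List.mem_cons, List.not_mem_nil, or_false] at ht
    rcases ht with rfl | rfl | rfl | rfl | rfl | rfl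
    · exact ⟨_, pt 0, (tc (hpm 0).1).trans ((hθc .d).trans (by decide))⟩
    · exact ⟨_, pt 3, (tc (hpm 3).1).trans ((hθc .g).trans (by decide))⟩
    · exact ⟨_, pt 4, (tc (hpm 4).1).trans ((hθc .j).trans (by decide))⟩
    · exact ⟨_, pt 5, (tc (hpm 5).1).trans (iff_of_true hθm rfl)⟩
    · exact ⟨_, pt 1, (tc (hpm 1).1).trans ((hθc .e).trans (by decide))⟩
    · exact ⟨_, pt 2, (tc (hpm 2).1).trans ((hθc .f).trans (by decide))⟩)
  rcases List.mem_cons.1 hcL with rfl | hc23
  · refine hθf ((hq2 _ (hpm 1).1 _ (hq3 _ (hpm 2).1 _ Mt).1).1.1 ?_)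
    show Commute (qq D b i (W 4)) (qq D b i (W 5 * theta W * W 5))
    rw [(hq3 (W 5) (hpm 2).1 _ Mt).2]
    exact (commute_code P S2.weak H (pt 1) (isPt_mv S2.weak H (pt 2) pc)).2 (of_decide_eq_true join_one)
  · have kθ : Commute k (theta W) := by
      have hkc : Commute k (val W cNums) := Commute.list_prod_right _ _ fun y hy => by
        obtain ⟨j, hj, rfl⟩ := List.mem_map.1 hy
        have h2 := (by decide : ∀ j ∈ cNums, 1 ≤ j ∧ j < 9) j hj
        exact hk1 j h2.1 h2.2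
      exact (hkc.mul_right (hk1 1 le_rfl (by norm_num))).mul_right hkc.inv_right
    have hon : ∀ x ∈ [1, 1344, 4, 256, 1024, c], On hF hσ f e r s (qq D b i k) x := by
      intro x hx
      simp only [List.mem_cons, List.not_mem_nil, or_false] at hx
      rcases hx with rfl | rfl | rfl | rfl | rfl | rfl
      · exact ⟨_, pt 0, (hq2 k Mk _ (hpm 0).1).1.2 (hk1 3 (by norm_num) (by norm_num))⟩
      · exact ⟨_, pt 1, (hq2 k Mk _ (hpm 1).1).1.2 (hk1 4 (by norm_num) (by norm_num))⟩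
      · exact ⟨_, pt 2, (hq2 k Mk _ (hpm 2).1).1.2 (hk1 5 (by norm_num) (by norm_num))⟩
      · exact ⟨_, pt 3, (hq2 k Mk _ (hpm 3).1).1.2 (hk1 6 (by norm_num) (by norm_num))⟩
      · exact ⟨_, pt 5, (hq2 k Mk _ (hpm 5).1).1.2 hk.2.2.symm⟩
      · exact ⟨_, pc, (hq2 k Mk _ Mt).1.2 kθ⟩
    have hoff : ∀ x ∈ ([20] : List ℕ), ¬ On hF hσ f e r s (qq D b i k) x := by
      intro x hx
      rw [List.mem_singleton] at hx
      subst hx
      rintro ⟨z, hz, hcz⟩
      rw [IsPt.unique P hz (pt 4)] at hcz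
      exact hno ((hq2 k Mk _ (hpm 4).1).1.1 hcz)
    simp only [List.mem_cons, List.not_mem_nil, or_false] at hc23
    rcases hc23 with rfl | rfl
    · exact TypeM23.Unique.search (e := e) S2 hP ha hb' hab P H (fun K l hg _ => Bool.noConfusion hg) treeJoin2_ok
        (sem_masks hon hoff)
    · exact TypeM23.Unique.search (e := e) S2 hP ha hb' hab P H (fun K l hg _ => Bool.noConfusion hg) treeJoin3_ok
        (sem_masks hon hoff)

end CfsgLib.KnownB.TypeM24.Unique
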