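import Cfsg.Agent.Lib.KnownB.TypeM24Unique.Quot
import Cfsg.Agent.Lib.KnownB.TypeM23.Kernel

/-!
In type M(24) an element centralising all partners of a member is trivial or that member.
-/

set_option autoImplicit false

namespace CfsgLib.KnownB.TypeM24.Unique

open Cfsg CfsgLib.ThreeTransp CfsgLib.Involutions
open CfsgLib.KnownB.TypeM22 CfsgLib.KnownB.TypeM23

universe u

variable {G : Type u} [Group G] [Finite G] {D : Set G}

/-- Two non-commuting members have two common partners. -/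
theorem Setting24.both_two (S : Setting24 D) {a c : G} (ha : a ∈ D) (hc : c ∈ D) (hn : ¬ Commute a c) (w : G) :
    ∃ p ∈ both D a c, p ≠ w := by
  obtain ⟨d₀, hd₀, c₀, hc₀, hdc, hns⟩ := S.not_solvable
  obtain ⟨g₀, hg₀⟩ := S.cls.trans d₀ hd₀ a ha
  obtain ⟨g', k1, k2⟩ := S.cls.rank_three S.prim S.exists_pair hd₀ hc₀
    (by simpa using S.cls.conj g₀⁻¹ c hc : g₀⁻¹ * c * g₀ ∈ D) hdc fun e => hn (by
      have := (commute_conj_iff g₀).2 e
      rwa [hg₀, show g₀ * (g₀⁻¹ * c * g₀) * g₀⁻¹ = c by group] at this)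
  obtain ⟨g, g1, g2⟩ : ∃ g : G, g * d₀ * g⁻¹ = a ∧ g * c₀ * g⁻¹ = c := ⟨g₀ * g', by
    rw [show g₀ * g' * d₀ * (g₀ * g')⁻¹ = g₀ * (g' * d₀ * g'⁻¹) * g₀⁻¹ by group, k1, hg₀], by
    rw [show g₀ * g' * c₀ * (g₀ * g')⁻¹ = g₀ * (g' * c₀ * g'⁻¹) * g₀⁻¹ by group, k2]; group⟩
  by_contra hno
  push Not at hno
  refine hns (haveI := Subgroup.isMulCommutative_closure (k := nb D d₀ ∩ nb D c₀) (fun x hx y hy => ?_);
    Group.isSolvable_of_comm fun x y => mul_comm' x y)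
  have key : ∀ v ∈ nb D d₀ ∩ nb D c₀, g * v * g⁻¹ = w := fun v hv => hno _
    ⟨S.cls.conj g v hv.1.1, g1 ▸ (commute_conj_iff g).2 hv.1.2.2, g2 ▸ (commute_conj_iff g).2 hv.2.2.2⟩
  rw [mul_left_cancel (mul_right_cancel ((key x hx).trans (key y hy).symm))]

theorem Setting24.lineProp (S : Setting24 D) : LineProp D := by
  intro a ha c hc hn w hw hall
  have hW := S.weak
  obtain ⟨p, hp, hpw⟩ := S.both_two ha hc hn w
  have ap : a ∈ nb D p := ⟨ha, fun e => hn (e ▸ hp.2.2).symm, hp.2.1.symm⟩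
  have cp : c ∈ nb D p := ⟨hc, fun e => hn (e ▸ hp.2.1), hp.2.2.symm⟩
  have wp : w ∈ nb D p := ⟨hw, hpw.symm, (hall p hp).symm⟩
  have aca : a * c * a ∈ nb D p := by
    have := hW.nb_conj a cp
    rwa [conj_eq_of_commute ap.2.2.symm, hW.inv ha] at this
  rcases (S.quot hp.1).lineProp _ (qd_mem ap) _ (qd_mem cp)
    (fun e => hn ((S.qd_comm hp.1 ap cp).1 e)) _ (qd_mem wp) (fun z hz => by
      obtain ⟨hz1, za, zc⟩ := hz
      obtain ⟨y, hy, rfl⟩ := dq_exists hz1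
      exact (S.qd_comm hp.1 wp hy).2 (hall y ⟨hy.1, (S.qd_comm hp.1 ap hy).1 za, (S.qd_comm hp.1 cp hy).1 zc⟩)) with
    r | r | r
  · exact Or.inl (S.qd_inj hp.1 wp ap r)
  · exact Or.inr (Or.inl (S.qd_inj hp.1 wp cp r))
  · rw [← qd_mul (mem_H ap) (mem_H cp), ← qd_mul (mul_mem (mem_H ap) (mem_H cp)) (mem_H ap)] at r
    exact Or.inr (Or.inr (S.qd_inj hp.1 wp aca r))

theorem Setting24.center_cases (S : Setting24 D) {d x : G} (hd : d ∈ D) (hx : x ∈ Subgroup.closure (nb D d))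
    (h1 : qd D d x = 1) : x = 1 ∨ x = d :=
  eq_one_or S.weak S.center S.lineProp hd (commute_closure_nb hx) ((qd_eq_one hx).1 h1)

theorem Setting24.pair_mem (S : Setting24 D) {d b y : G} (hd : d ∈ D) (hb : b ∈ nb D d) (hy : y ∈ nb D d) :
    qd D d y ∈ nb (Dq D d) (qd D d b) ↔ y ∈ nb D d ∩ nb D b :=
  ⟨fun h => ⟨hy, hy.1, fun e => h.2.1 (congrArg _ e), (S.qd_comm hd hb hy).1 h.2.2⟩,
    fun h => ⟨qd_mem hy, fun e => h.2.2.1 (S.qd_inj hd hy hb e), (S.qd_comm hd hb hy).2 h.2.2.2⟩⟩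

theorem Setting24.pair_lift (S : Setting24 D) {d b : G} (hd : d ∈ D) (hb : b ∈ nb D d) {z : Qd D d}
    (hz : z ∈ nb (Dq D d) (qd D d b)) : ∃ y, y ∈ nb D d ∩ nb D b ∧ qd D d y = z := by
  obtain ⟨y, hy, rfl⟩ := dq_exists hz.1
  exact ⟨y, (S.pair_mem hd hb hy).1 hz, rfl⟩

end CfsgLib.KnownB.TypeM24.Unique

namespace CfsgLib.KnownB.TypeM24.Unique

open Cfsg CfsgLib.ThreeTransp CfsgLib.Involutions
open CfsgLib.KnownB.TypeM22 CfsgLib.KnownB.TypeM23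

variable {G : Type*} [Group G] [Finite G] {D : Set G}

theorem Setting24.exists_nb (S : Setting24 D) {d : G} (hd : d ∈ D) : ∃ b, b ∈ nb D d := by
  obtain ⟨a, ha, -⟩ := pair_of_typeM23 (S.typ_all hd)
  obtain ⟨y, hy, -⟩ := dq_exists ha
  exact ⟨y, hy⟩

/-- A member lies in the subgroup generated by its partners. -/
theorem Setting24.self_mem (S : Setting24 D) {d : G} (hd : d ∈ D) : d ∈ Subgroup.closure (nb D d) := by
  obtain ⟨m, hm⟩ := S.exists_nb hd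
  have hdm : d ∈ nb D m := ⟨hd, hm.2.1.symm, hm.2.2.symm⟩
  obtain ⟨y, hy, e⟩ := (S.quot hm.1).six_self (qd_mem hdm)
  choose x hx ex using fun i => S.pair_lift hm.1 hdm (hy i)
  obtain ⟨X, hX⟩ : ∃ X, X = x 0 * (x 1 * (x 2 * (x 3 * (x 4 * x 5)))) := ⟨_, rfl⟩
  have hXm : X ∈ Subgroup.closure (nb D m) := hX ▸ mul_mem (mem_H (hx 0).1) (mul_mem (mem_H (hx 1).1)
    (mul_mem (mem_H (hx 2).1) (mul_mem (mem_H (hx 3).1) (mul_mem (mem_H (hx 4).1) (mem_H (hx 5).1)))))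
  have hXd : X ∈ Subgroup.closure (nb D d) := hX ▸ mul_mem (mem_H (hx 0).2) (mul_mem (mem_H (hx 1).2)
    (mul_mem (mem_H (hx 2).2) (mul_mem (mem_H (hx 3).2) (mul_mem (mem_H (hx 4).2) (mem_H (hx 5).2)))))
  have e' : qd D m X = qd D m d := by
    rw [hX]
    have hH : ∀ i, x i ∈ Subgroup.closure (nb D m) := fun i => mem_H (hx i).1
    rw [qd_mul (hH 0) (mul_mem (hH 1) (mul_mem (hH 2) (mul_mem (hH 3) (mul_mem (hH 4) (hH 5))))),
      qd_mul (hH 1) (mul_mem (hH 2) (mul_mem (hH 3) (mul_mem (hH 4) (hH 5)))),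
      qd_mul (hH 2) (mul_mem (hH 3) (mul_mem (hH 4) (hH 5))),
      qd_mul (hH 3) (mul_mem (hH 4) (hH 5)), qd_mul (hH 4) (hH 5), ex, ex, ex, ex, ex, ex, e]
  have h1 : qd D m (X⁻¹ * d) = 1 := by
    rw [qd_mul (inv_mem hXm) (mem_H hdm), qd_inv hXm, e', inv_mul_cancel]
  rcases S.center_cases hm.1 (mul_mem (inv_mem hXm) (mem_H hdm)) h1 with r | r
  · rwa [inv_mul_eq_one.1 r] at hXd
  · have := mul_mem hXd (mem_H hm)
    rwa [show X * m = d by rw [← r, mul_inv_cancel_left]] at this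

theorem Setting24.qd_self (S : Setting24 D) {d : G} (hd : d ∈ D) : qd D d d = 1 :=
  (qd_eq_one (S.self_mem hd)).2 fun _ hy => hy.2.2

end CfsgLib.KnownB.TypeM24.Unique
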