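import Cfsg.Agent.Lib.KnownB.TypeM24Unique.LoneData
import Cfsg.Agent.Lib.Spor.Fi23.OutPoints
import Cfsg.Agent.Lib.PresCert.Sift

/-!
The points of Fi23 moved by every conjugate of nine generators under the group they generate form one orbit.
-/

set_option autoImplicit false
set_option maxRecDepth 100000
set_option Elab.async false

namespace CfsgLib.KnownB.TypeM24.Unique

open CfsgLib.PresCert
open CfsgLib.Spor.Fi23 (gen idx π π_gen Perm.data)
open CfsgLib.Spor.Fi23.Auto (ofIdx idx_ofIdx)

local notation "N" => Perm.data.n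

/-- one of the nine letters -/
noncomputable def nineLetter (s : Nat) : Bool := Nat.ble 1 s && Nat.ble s 9

/-- the points fixed by one of the nine -/
noncomputable def fixNine (p : Nat) : Bool :=
  [1, 2, 3, 4, 5, 6, 7, 8, 9].any fun s => Nat.beq (Perm.data.img s p) p

/-- the growth of a set of points along steps -/
noncomputable def grow (seed : Nat → Bool) : List Nat → Nat → Nat
  | [], S => S
  | e :: l, S => force S fun T => force (Nat.shiftRight e 4) fun p => force (Nat.land e 15) fun s =>
      grow seed l (bif Nat.blt p N && nineLetter s && (seed p || T.testBit p)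
        then Nat.lor T (Nat.shiftLeft 1 (Perm.data.img s p)) else T)

/-- the growth along chunks -/
noncomputable def growAll (seed : Nat → Bool) : List (List Nat) → Nat → Nat
  | [], S => S
  | l :: ls, S => force S fun T => growAll seed ls (grow seed l T)

theorem grow_sound {P : Nat → Prop} {seed : Nat → Bool} (h0 : ∀ p, p < N → seed p = true → P p)
    (hs : ∀ p s, p < N → nineLetter s = true → P p → P (Perm.data.img s p)) :
    ∀ (l : List Nat) (S : Nat), (∀ q, S.testBit q = true → P q) → ∀ q, (grow seed l S).testBit q = true → P q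
  | [], _, hS, q, hq => hS q hq
  | e :: l, S, hS, q, hq => by
    rw [grow, force_eq, force_eq, force_eq] at hq
    refine grow_sound h0 hs l _ ?_ q hq
    intro r hr
    cases hc : (Nat.blt (Nat.shiftRight e 4) N && nineLetter (Nat.land e 15) &&
        (seed (Nat.shiftRight e 4) || S.testBit (Nat.shiftRight e 4)))
    · rw [hc, cond_false] at hr; exact hS r hr
    · rw [hc, cond_true] at hr
      simp only [Bool.and_eq_true, Bool.or_eq_true, Nat.blt_eq] at hc
      obtain ⟨⟨hp, hl⟩, hb⟩ := hc
      rw [show ∀ a b : Nat, Nat.lor a b = a ||| b from fun _ _ => rfl,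
        show ∀ b : Nat, Nat.shiftLeft 1 b = 1 <<< b from fun _ => rfl, Nat.one_shiftLeft, Nat.testBit_or,
        Bool.or_eq_true, Nat.testBit_two_pow, decide_eq_true_eq] at hr
      rcases hr with hr | rfl
      · exact hS r hr
      · exact hs _ _ hp hl (hb.elim (h0 _ hp) (hS _))

theorem growAll_sound {P : Nat → Prop} {seed : Nat → Bool} (h0 : ∀ p, p < N → seed p = true → P p)
    (hs : ∀ p s, p < N → nineLetter s = true → P p → P (Perm.data.img s p)) :
    ∀ (ls : List (List Nat)) (S : Nat), (∀ q, S.testBit q = true → P q) →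
      ∀ q, (growAll seed ls S).testBit q = true → P q
  | [], _, hS, q, hq => hS q hq
  | l :: ls, S, hS, q, hq => by
    rw [growAll, force_eq] at hq
    exact growAll_sound h0 hs ls _ (grow_sound h0 hs l S hS) q hq

/-- every point is reached or fixed -/
noncomputable def loneCheck : Bool :=
  force (growAll fixNine tiedSteps 0) fun B => force (growAll (Nat.beq lonePt) loneSteps 0) fun O =>
    allBelow N fun i => B.testBit i || Nat.beq i lonePt || O.testBit i || fixNine i

theorem loneCheck_ok : loneCheck = true := by decide +kernel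

theorem lonePt_lt : lonePt < N := by decide +kernel

/-- the group generated by the nine -/
noncomputable def K9 : Subgroup Cfsg.Spor.Fi23 := Subgroup.closure (gen '' {x | x ≠ .a})

/-- fixed by a conjugate of one of the nine -/
def Tied (q : Fin N) : Prop := ∃ g ∈ K9, ∃ x, x ≠ Cfsg.Spor.Fi23.Gen.a ∧ π (g * gen x * g⁻¹) q = q

/-- reached from the point -/
def Lone (q : Fin N) : Prop := ∃ g ∈ K9, π g ⟨lonePt, lonePt_lt⟩ = q

theorem nineLetter_gen {s : Nat} (h : nineLetter s = true) :
    ofIdx s ≠ .a ∧ idx (ofIdx s) = s := by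
  simp only [nineLetter, Bool.and_eq_true, Nat.ble_eq] at h
  refine ⟨?_, idx_ofIdx s (by omega)⟩
  intro e
  have := idx_ofIdx s (by omega)
  rw [e] at this
  change 0 = s at this
  omega

/-- The dichotomy. -/
theorem tied_or_lone (q : Fin N) : Tied q ∨ Lone q := by
  have hfix : ∀ p, p < N → fixNine p = true → ∀ h : p < N, Tied ⟨p, h⟩ := fun p _ hp h => by
    obtain ⟨s, hs, e⟩ := List.any_eq_true.1 hp
    have hn : nineLetter s = true := by
      simp only [List.mem_cons, List.not_mem_nil, or_false] at hs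
      rcases hs with rfl | rfl | rfl | rfl | rfl | rfl | rfl | rfl | rfl <;> decide +kernel
    obtain ⟨h1, h2⟩ := nineLetter_gen hn
    refine ⟨1, one_mem _, ofIdx s, h1, ?_⟩
    rw [one_mul, inv_one, mul_one, Fin.ext_iff, π_gen, h2]
    exact Nat.eq_of_beq_eq_true e
  have himg : ∀ p s (hp : p < N), nineLetter s = true → ∀ h : Perm.data.img s p < N,
      (⟨Perm.data.img s p, h⟩ : Fin N) = π (gen (ofIdx s)) ⟨p, hp⟩ := fun p s hp hn h => by
    rw [Fin.ext_iff, π_gen, (nineLetter_gen hn).2]
  have hgen : ∀ s, nineLetter s = true → gen (ofIdx s) ∈ K9 := fun s hn =>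
    Subgroup.subset_closure ⟨_, (nineLetter_gen hn).1, rfl⟩
  have c := loneCheck_ok
  rw [loneCheck, force_eq, force_eq] at c
  have hc := allBelow_spec c q q.2
  simp only [Bool.or_eq_true, Nat.beq_eq] at hc
  rcases hc with ((hc | hc) | hc) | hc
  · refine Or.inl (growAll_sound (P := fun p => ∀ h : p < N, Tied ⟨p, h⟩) hfix ?_ _ _
      (fun r hr => by simp at hr) q hc q.2)
    intro p s hp hn ht h
    obtain ⟨g, hg, x, hx, e⟩ := ht hp
    refine ⟨gen (ofIdx s) * g, mul_mem (hgen s hn) hg, x, hx, ?_⟩
    rw [himg p s hp hn h, show gen (ofIdx s) * g * gen x * (gen (ofIdx s) * g)⁻¹ =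
      gen (ofIdx s) * (g * gen x * g⁻¹) * (gen (ofIdx s))⁻¹ by group, map_mul, map_mul, map_inv,
      Equiv.Perm.mul_apply, Equiv.Perm.mul_apply, Equiv.Perm.coe_inv, Equiv.symm_apply_apply, e]
  · exact Or.inr ⟨1, one_mem _, by rw [map_one, Equiv.Perm.one_apply]; exact Fin.ext hc.symm⟩
  · refine Or.inr (growAll_sound (P := fun p => ∀ h : p < N, Lone ⟨p, h⟩) (seed := Nat.beq lonePt) ?_ ?_ _ _
      (fun r hr => by simp at hr) q hc q.2)
    · intro p _ e h
      exact ⟨1, one_mem _, by rw [map_one, Equiv.Perm.one_apply]; exact Fin.ext (Nat.eq_of_beq_eq_true e)⟩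
    · intro p s hp hn hl h
      obtain ⟨g, hg, e⟩ := hl hp
      exact ⟨gen (ofIdx s) * g, mul_mem (hgen s hn) hg, by rw [map_mul, Equiv.Perm.mul_apply, e, himg p s hp hn h]⟩
  · exact Or.inl (hfix q q.2 hc q.2)

theorem noCommon_ok : allBelow N (fun i => [1, 2, 3, 4, 5, 6, 7, 8, 9].any fun s => !Nat.beq (Perm.data.img s i) i) = true := by
  decide +kernel

/-- No point is fixed by all nine. -/
theorem noCommon (q : Fin N) : ∃ x, x ≠ Cfsg.Spor.Fi23.Gen.a ∧ π (gen x) q ≠ q := by
  obtain ⟨s, hs, e⟩ := List.any_eq_true.1 (allBelow_spec noCommon_ok q q.2)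
  have hn : nineLetter s = true := by
    simp only [List.mem_cons, List.not_mem_nil, or_false] at hs
    rcases hs with rfl | rfl | rfl | rfl | rfl | rfl | rfl | rfl | rfl <;> decide +kernel
  refine ⟨ofIdx s, (nineLetter_gen hn).1, fun h => ?_⟩
  rw [Fin.ext_iff, π_gen, (nineLetter_gen hn).2] at h
  rw [h, Nat.beq_refl] at e
  exact Bool.noConfusion e

end CfsgLib.KnownB.TypeM24.Unique
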