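import Cfsg.Agent.Lib.KnownB.TypeM24Unique.Rels
import Cfsg.Agent.Lib.Spor.Fi24.Main

/-!
The group generated by the twelve members paired with the generators of Fi24.
-/

set_option autoImplicit false
set_option maxRecDepth 100000

namespace CfsgLib.KnownB.TypeM24.Unique

open Cfsg CfsgLib.ThreeTransp CfsgLib.Involutions CfsgLib.BitPerm
open CfsgLib.KnownB.TypeM22 CfsgLib.KnownB.TypeM22.Unique
open CfsgLib.KnownB.TypeM23 CfsgLib.KnownB.TypeM23.Unique
open CfsgLib.KnownB.Fi22Mult (val val_nil val_cons val_append)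
open CfsgLib.Spor.Fi24 (numGen allGens)

universe u

variable {G : Type u} [Group G] [Finite G] {D : Set G}

theorem certS_facts : certS.g = 12 ∧ (∀ n < 12, certS.iv n = n) ∧ certS.subs = [0, 2, 3, 4, 5, 6, 7, 8, 9, 10, 11] := by
  decide +kernel

theorem seed_split : seedWord = [1, 0, 2, 1] ++ seedWord.drop 4 ∧ ((seedWord.drop 4).map toTen).reverse = seedNums ∧
    (seedWord.drop 4).all (Nat.ble 2) = true := by
  decide +kernel

/-- the chain of edges joining the twelve to `l` -/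
def parent24 (n : ℕ) : ℕ := [0, 0, 1, 2, 3, 4, 5, 6, 7, 8, 5, 10].getD n 0

theorem parent24_facts : ∀ n < 12, n ≠ 0 → parent24 n < n ∧ edge24 (parent24 n) n = true ∧
    Cfsg.Spor.coxLabel Cfsg.Spor.Fi24.edges (allGens.getD (parent24 n) .l) (allGens.getD n .l) = 3 := by
  decide +kernel

/-- the pairs -/
noncomputable def pairGen (l k : G) (W : ℕ → G) (n : ℕ) : G × Cfsg.Spor.Fi24 := (twelve l k W n, numGen n)

theorem mem_certS_rels {r : List ℕ} (hr : r ∈ certS.rels) :
    r = [] ∨ r ∈ CfsgLib.Spor.Fi24.Clo.cert.rels := by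
  rcases List.mem_or_eq_of_mem_set hr with h | h
  · exact Or.inr h
  · exact Or.inl h

/-- The pairs satisfy a model of the closure. -/
theorem Full.exists_map (S : Setting24 D) {l m k : G} {W : ℕ → G} (F : Full D l m W k) :
    ∃ ψ : Cfsg.Spor.Fi24 →* G, Function.Surjective ψ ∧ ψ (CfsgLib.Spor.Fi24.gen .l) = l ∧
      ψ (CfsgLib.Spor.Fi24.gen .k) = k := by
  have hW := S.weak
  have T := F.top
  haveI : Finite Cfsg.Spor.Fi24 := CfsgLib.Spor.Fi24.finite_Fi24
  obtain ⟨U, hU⟩ : ∃ U : Subgroup (G × Cfsg.Spor.Fi24), U = Subgroup.closure {q | ∃ n < 12, pairGen l k W n = q} := ⟨_, rfl⟩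
  have hin : ∀ n, n < 12 → pairGen l k W n ∈ U := fun n hn => hU ▸ Subgroup.subset_closure ⟨n, hn, rfl⟩
  obtain ⟨P, hP⟩ : ∃ P : ℕ → U, ∀ n, n < 12 → (P n : G × Cfsg.Spor.Fi24) = pairGen l k W n :=
    ⟨fun n => if h : n < 12 then ⟨_, hin n h⟩ else 1, fun n hn => by simp [hn]⟩
  have hl12 : ∀ r ∈ certS.rels, ∀ n ∈ r, n < 12 := fun r hr n hn => by
    rcases mem_certS_rels hr with rfl | h
    · simp at hn
    · exact (CfsgLib.Spor.Fi24.clo_rel h).1 n hn
  obtain ⟨p1, hp1⟩ : ∃ p1 : U →* G, ∀ u, p1 u = (u : G × Cfsg.Spor.Fi24).1 :=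
    ⟨(MonoidHom.fst G Cfsg.Spor.Fi24).comp U.subtype, fun _ => rfl⟩
  obtain ⟨p2, hp2⟩ : ∃ p2 : U →* Cfsg.Spor.Fi24, ∀ u, p2 u = (u : G × Cfsg.Spor.Fi24).2 :=
    ⟨(MonoidHom.snd G Cfsg.Spor.Fi24).comp U.subtype, fun _ => rfl⟩
  have e1 : ∀ n, n < 12 → p1 (P n) = twelve l k W n := fun n hn => by rw [hp1, hP n hn]; rfl
  have e2 : ∀ n, n < 12 → p2 (P n) = numGen n := fun n hn => by rw [hp2, hP n hn]; rfl
  have ext' : ∀ {u v : U}, p1 u = p1 v → p2 u = p2 v → u = v := fun {u v} h1 h2 =>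
    Subtype.ext (Prod.ext (by rwa [hp1, hp1] at h1) (by rwa [hp2, hp2] at h2))
  have hsq : ∀ n, n < 12 → P n * P n = 1 := fun n hn => ext'
    (by rw [map_mul, e1 n hn, map_one, hW.sq _ (F.mem hn)])
    (by rw [map_mul, e2 n hn, map_one]; exact CfsgLib.Spor.Fi24.gen_sq _)
  obtain ⟨g, hiv, hsubs⟩ := certS_facts
  obtain ⟨L, hL⟩ : ∃ L, L = P 0 := ⟨_, rfl⟩
  have hpl : p2 L = CfsgLib.Spor.Fi24.gen .l := by rw [hL, e2 0 (by norm_num)]; rfl
  have hl1 : p1 L = l := by rw [hL, e1 0 (by norm_num)]; rfl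
  obtain ⟨M, hM⟩ : ∃ M : Cert.Model certS U, M.gen = P ∧ M.sub = Subgroup.centralizer ({L} : Set U) := by
    refine ⟨⟨P, fun x hx => ?_, fun x hx i => ?_, fun r hr => ?_, fun r hr i => ?_,
      Subgroup.centralizer ({L} : Set U), fun x hx => ?_, ?_⟩, rfl, rfl⟩
    · rw [g] at hx
      rw [hiv x hx, g]
      exact ⟨hx, (inv_eq_of_mul_eq_one_left (hsq x hx)).symm⟩
    · exact CfsgLib.Spor.Fi24.cloModel.pt_iv x hx i
    · refine ext' ?_ ?_
      · rw [map_list_prod, List.map_map, map_one, ← F.rels S hr]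
        exact congrArg List.prod (List.map_congr_left fun n hn => e1 n (hl12 r hr n hn))
      · rw [map_list_prod, List.map_map, map_one]
        refine Eq.trans (congrArg List.prod (List.map_congr_left fun n hn => e2 n (hl12 r hr n hn))) ?_
        rcases mem_certS_rels hr with rfl | h
        · rfl
        · exact (CfsgLib.Spor.Fi24.clo_rel h).2
    · rcases mem_certS_rels hr with rfl | h
      · rfl
      · exact CfsgLib.Spor.Fi24.clo_fixed h i
    · rw [hsubs] at hx
      have hx12 : x < 12 ∧ x ≠ 1 := (by decide : ∀ x ∈ ([0, 2, 3, 4, 5, 6, 7, 8, 9, 10, 11] : List ℕ), x < 12 ∧ x ≠ 1) x hx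
      refine Subgroup.mem_centralizer_singleton_iff.2 (ext' ?_ ?_)
      · rw [map_mul, map_mul, e1 x hx12.1, hl1]
        have : Commute (twelve l k W 0) (twelve l k W x) := (F.adj (by norm_num) hx12.1).2 (by
          rw [(edge24_low x hx12.1).1, ← Bool.not_eq_true, Nat.beq_eq]; exact hx12.2)
        exact this.eq.symm
      · rw [map_mul, map_mul, e2 x hx12.1, hpl]
        exact CfsgLib.Spor.Fi24.Spider.gen_comm_l ((by decide : ∀ x ∈ ([0, 2, 3, 4, 5, 6, 7, 8, 9, 10, 11] : List ℕ),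
          allGens.getD x .l ∈ CfsgLib.Spor.Fi24.hGens) x hx)
    · refine eq_top_iff.2 ?_
      rintro ⟨q, hq⟩ -
      induction (hU ▸ hq : q ∈ Subgroup.closure {q | ∃ n < 12, pairGen l k W n = q}) using Subgroup.closure_induction with
      | mem y hy =>
        obtain ⟨n, hn, rfl⟩ := hy
        exact Subgroup.subset_closure ⟨n, g ▸ hn, Subtype.ext (hP n hn)⟩
      | one => exact one_mem _
      | mul a b ha hb iha ihb =>
        exact mul_mem (iha (hU ▸ ha)) (ihb (hU ▸ hb))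
      | inv a ha iha => exact inv_mem (iha (hU ▸ ha))
  obtain ⟨hMg, hMs⟩ := hM
  -- the seed
  have hwlt : ∀ n ∈ seedWord, n < 12 := fun n hn => g ▸ Nat.blt_eq.mp (List.all_eq_true.1 seed_bits.2.2 n hn)
  obtain ⟨Q, hQ⟩ : ∃ Q, Q = (seedWord.map P).prod := ⟨_, rfl⟩
  have q1 : p1 Q = (seedWord.map (twelve l k W)).prod := by
    rw [hQ, map_list_prod, List.map_map]
    exact congrArg List.prod (List.map_congr_left fun n hn => e1 n (hwlt n hn))
  have q2 : p2 Q = (seedWord.map numGen).prod := by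
    rw [hQ, map_list_prod, List.map_map]
    exact congrArg List.prod (List.map_congr_left fun n hn => e2 n (hwlt n hn))
  have c1 : Commute k ((p1 Q)⁻¹ * l * p1 Q) := by
    obtain ⟨s1, s2, s3⟩ := seed_split
    rw [q1, s1, List.map_append, List.prod_append,
      val_twelve l k W (fun n hn => Nat.le_of_ble_eq_true (List.all_eq_true.1 s3 n hn))]
    simp only [List.map_cons, List.map_nil, List.prod_cons, List.prod_nil, mul_one,
      show twelve l k W 1 = k from rfl, show twelve l k W 0 = l from rfl, show twelve l k W 2 = W 0 from rfl]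
    have hsd : ∀ i ∈ (seedWord.drop 4).map toTen, W i ∈ D := fun i hi => by
      obtain ⟨n, hn, rfl⟩ := List.mem_map.1 hi
      exact (T.mem _ (toTen_lt n (hwlt n (List.mem_of_mem_drop hn)))).1
    have hv : val W seedNums = (val W ((seedWord.drop 4).map toTen))⁻¹ := by rw [← s2, val_rev hW hsd]
    have hs := F.seed
    rw [hv, inv_inv] at hs
    convert hs using 1
    have ki := hW.inv F.hk
    have li := hW.inv T.hl
    have ai := hW.inv (T.mem 0 (by norm_num)).1
    have b1 : l * k * l = k * l * k := hW.braid T.hl F.hk fun h => F.kl h.symm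
    have b2 : k * W 0 * k = W 0 * k * W 0 := hW.braid F.hk (T.mem 0 (by norm_num)).1 F.k0
    have x1 : l * k * l * k * l = k := by
      rw [b1]; simp only [mul_assoc]; rw [hW.mul_mul_self F.hk, hW.sq _ T.hl, mul_one]
    have x2 : k * W 0 * k * W 0 * k = W 0 := by
      rw [b2]; simp only [mul_assoc]
      rw [hW.mul_mul_self (T.mem 0 (by norm_num)).1, hW.sq _ F.hk, mul_one]
    rw [mul_inv_rev, mul_inv_rev, mul_inv_rev, mul_inv_rev, ki, li, ai]
    calc (val W ((seedWord.drop 4).map toTen))⁻¹ * (k * W 0 * l * k) * l * (k * (l * (W 0 * k)) * val W ((seedWord.drop 4).map toTen))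
        = (val W ((seedWord.drop 4).map toTen))⁻¹ * (k * W 0 * (l * k * l * k * l) * W 0 * k) * val W ((seedWord.drop 4).map toTen) := by
          simp only [mul_assoc]
      _ = _ := by rw [x1, x2]
  have c2 : Commute (numGen 1) ((p2 Q)⁻¹ * CfsgLib.Spor.Fi24.gen .l * p2 Q) := by
    have hn : certS.okNets = true := CfsgLib.Spor.Fi24.okNets
    obtain ⟨f1, f2⟩ := seed_facts hn
    let X := CfsgLib.Spor.FischerTypes.cls24 CfsgLib.Spor.Fi24.cosetFacts
    have hpt : ((CfsgLib.Spor.Fi24.π (p2 Q)⁻¹ CfsgLib.Spor.Fi24.i₀ : Fin 306936) : ℕ) = 13026 := by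
      rw [q2, show seedWord.map numGen = (seedWord.map fun n => allGens.getD n .l).map CfsgLib.Spor.Fi24.gen from by
          rw [List.map_map]; rfl,
        ← CfsgLib.PresCert.prod_reverse_of_invol CfsgLib.Spor.Fi24.gen CfsgLib.Spor.Fi24.gen_sq,
        CfsgLib.Spor.Fi24.π_word, List.map_reverse, List.reverse_reverse, List.map_map]
      refine Eq.trans (congrArg (fun w => CfsgLib.Spor.Fi24.sys.ptW w (CfsgLib.Spor.Fi24.i₀ : Fin 306936))
        ((List.map_congr_left (g := id) fun n hn' => CfsgLib.Spor.Fi24.idx_getD n (hwlt n hn')).trans (List.map_id _))) ?_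
      exact f1
    have e : (p2 Q)⁻¹ * CfsgLib.Spor.Fi24.gen .l * p2 Q = X.tp (CfsgLib.Spor.Fi24.π (p2 Q)⁻¹ CfsgLib.Spor.Fi24.i₀) := by
      refine Eq.trans ?_ (X.tp_of_eq (g := (p2 Q)⁻¹) rfl).symm
      rw [inv_inv]
      rfl
    rw [e]
    refine (X.commute_tp_iff _ _).2 (Fin.ext ?_)
    show ((CfsgLib.Spor.Fi24.π (CfsgLib.Spor.Fi24.gen .k) _ : Fin 306936) : ℕ) = _
    rw [CfsgLib.Spor.Fi24.π_gen, hpt]
    exact f2
  have hseed : (seedWord.map M.gen).prod * M.gen 1 * ((seedWord.map M.gen).prod)⁻¹ ∈ M.sub := by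
    rw [hMg, hMs, ← hQ, Subgroup.mem_centralizer_singleton_iff]
    have hc : Commute (P 1) (Q⁻¹ * L * Q) := by
      refine ext' ?_ ?_
      · simp only [map_mul, map_inv, hl1, e1 1 (by norm_num : (1 : ℕ) < 12), show twelve l k W 1 = k from rfl]
        exact c1.eq
      · simp only [map_mul, map_inv, hpl, e2 1 (by norm_num : (1 : ℕ) < 12)]
        exact c2.eq
    have := (commute_conj_iff Q).2 hc
    rwa [show Q * (Q⁻¹ * L * Q) * Q⁻¹ = L by group] at this
  obtain ⟨hidx, hfin⟩ := index_le M hseed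
  rw [hMs] at hidx
  have hsurj2 : Function.Surjective p2 := by
    rw [← MonoidHom.range_eq_top, eq_top_iff, ← CfsgLib.PresCert.top_eq_lettersGroup
      (edges := Cfsg.Spor.Fi24.edges) (extra := Cfsg.Spor.Fi24.extra) allGens CfsgLib.Spor.Fi24.mem_allGens,
      CfsgLib.PresCert.lettersGroup, Subgroup.closure_le]
    rintro _ ⟨x, hx, rfl⟩
    obtain ⟨n, hn, rfl⟩ : ∃ n < 12, allGens.getD n .l = x := ⟨CfsgLib.Spor.Fi24.idx x,
      by cases x <;> decide, by cases x <;> decide⟩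
    exact ⟨P n, e2 n hn⟩
  have hker : ∀ u, p2 u = 1 → u ∈ Subgroup.centralizer ({L} : Set U) := by
    have hH : ∀ u ∈ Subgroup.centralizer ({L} : Set U), p2 u ∈ CfsgLib.Spor.Fi24.H := fun u hu => by
      rw [← CfsgLib.Spor.FischerTypes.centralizer_l CfsgLib.Spor.Fi24.cosetFacts,
        Subgroup.mem_centralizer_singleton_iff, ← hpl, ← map_mul, ← map_mul,
        Subgroup.mem_centralizer_singleton_iff.1 hu]
    obtain ⟨f, hf⟩ : ∃ f : U ⧸ Subgroup.centralizer ({L} : Set U) → Cfsg.Spor.Fi24 ⧸ CfsgLib.Spor.Fi24.H,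
        ∀ u : U, f u = (p2 u : Cfsg.Spor.Fi24 ⧸ CfsgLib.Spor.Fi24.H) :=
      ⟨fun q => Quotient.liftOn' q (fun u => (p2 u : Cfsg.Spor.Fi24 ⧸ CfsgLib.Spor.Fi24.H)) fun a b hab => by
        rw [QuotientGroup.leftRel_apply] at hab
        refine QuotientGroup.eq.2 ?_
        rw [← map_inv, ← map_mul]
        exact hH _ hab, fun _ => rfl⟩
    have hs : Function.Surjective f := fun q => by
      obtain ⟨x, rfl⟩ := QuotientGroup.mk_surjective q
      obtain ⟨u, rfl⟩ := hsurj2 x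
      exact ⟨(u : U ⧸ Subgroup.centralizer ({L} : Set U)), hf u⟩
    have hb : Function.Bijective f := hs.bijective_of_nat_card_le (by
      rw [← Subgroup.index_eq_card, ← Subgroup.index_eq_card, CfsgLib.Spor.Fi24.index_H]; exact hidx)
    intro u hu
    have := hb.1 ((hf u).trans ((congrArg _ (hu.trans p2.map_one.symm)).trans (hf 1).symm))
    simpa using QuotientGroup.eq.1 this.symm
  -- every generator is a conjugate of the first
  have hconj : ∀ n, n < 12 → ∃ u : U, u * L * u⁻¹ = P n := by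
    intro n
    induction n using Nat.strong_induction_on with
    | _ n ih =>
      intro hn
      rcases eq_or_ne n 0 with rfl | h0
      · exact ⟨1, by rw [hL]; group⟩
      obtain ⟨hlt, he, hlab⟩ := parent24_facts n hn h0
      obtain ⟨u, hu⟩ := ih _ hlt (hlt.trans hn)
      refine ⟨P (parent24 n) * P n * u, ?_⟩
      rw [show P (parent24 n) * P n * u * L * (P (parent24 n) * P n * u)⁻¹ =
        P (parent24 n) * P n * (u * L * u⁻¹) * (P (parent24 n) * P n)⁻¹ by group, hu]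
      refine ext' ?_ ?_
      · simp only [map_mul, map_inv, e1 n hn, e1 _ (hlt.trans hn)]
        exact hW.conj_braid (F.mem (hlt.trans hn)) (F.mem hn) fun h => by
          have := (F.adj (hlt.trans hn) hn).1 h
          rw [he] at this
          exact Bool.noConfusion this
      · simp only [map_mul, map_inv, e2 n hn, e2 _ (hlt.trans hn)]
        exact CfsgLib.Spor.FischerTypes.braid24 hlab
  -- the first coordinates fill the group
  have hall : p1.range = ⊤ := by
    obtain ⟨φ, hinj, hφ, -⟩ := T.ten.exists_map (S.quot T.hl)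
    haveI : Finite Cfsg.Spor.Fi23 := CfsgLib.Spor.Fi23.finite
    have hb : Function.Bijective φ := (Nat.bijective_iff_injective_and_card φ).2 ⟨hinj, by
      rw [(S.quot T.hl).card_group, CfsgLib.Spor.Fi23.natCard]; norm_num⟩
    have hWm : ∀ i, i < 10 → W i ∈ p1.range := fun i hi => by
      obtain ⟨n, hn, h2, rfl⟩ : ∃ n, n < 12 ∧ 2 ≤ n ∧ toTen n = i := by
        interval_cases i
        exacts [⟨2, by decide⟩, ⟨3, by decide⟩, ⟨4, by decide⟩, ⟨5, by decide⟩, ⟨6, by decide⟩, ⟨7, by decide⟩,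
          ⟨8, by decide⟩, ⟨10, by decide⟩, ⟨11, by decide⟩, ⟨9, by decide⟩]
      exact ⟨P n, (e1 n hn).trans (twelve_ge l k W h2)⟩
    have hr : ∀ x, ∃ h, h ∈ p1.range ∧ h ∈ Subgroup.closure (nb D l) ∧ qd D l h = φ x := fun x => by
      induction (CfsgLib.Spor.Fi23.Auto.closure_gen ▸ Subgroup.mem_top x :
          x ∈ Subgroup.closure (Set.range (CfsgLib.Spor.Fi23.gen))) using Subgroup.closure_induction with
      | mem y hy =>
        obtain ⟨z, rfl⟩ := hy
        exact ⟨_, hWm _ (num_lt z), mem_H (T.mem _ (num_lt z)), (hφ z).symm⟩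
      | one => exact ⟨1, one_mem _, one_mem _, by rw [qd_one, map_one]⟩
      | mul a b _ _ iha ihb =>
        obtain ⟨u, u1, u2, u3⟩ := iha
        obtain ⟨v, v1, v2, v3⟩ := ihb
        exact ⟨u * v, mul_mem u1 v1, mul_mem u2 v2, by rw [qd_mul u2 v2, u3, v3, map_mul]⟩
      | inv a _ iha =>
        obtain ⟨u, u1, u2, u3⟩ := iha
        exact ⟨u⁻¹, inv_mem u1, inv_mem u2, by rw [qd_inv u2, u3, map_inv]⟩
    obtain ⟨u0, hu0⟩ := hconj 2 (by norm_num)
    have hnb : ∀ y ∈ nb D l, ∃ h ∈ p1.range, h * l * h⁻¹ = y := fun y hy => by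
      obtain ⟨q, hq⟩ := (S.quot T.hl).cls.trans _ (qd_mem (T.mem 0 (by norm_num))) _ (qd_mem hy)
      obtain ⟨x, rfl⟩ := hb.2 q
      obtain ⟨h, h1, h2, h3⟩ := hr x
      rw [← h3, ← qd_conj h2 (mem_H (T.mem 0 (by norm_num)))] at hq
      have hy' : h * W 0 * h⁻¹ ∈ nb D l := TypeM22.conj_nb hW (commute_closure_nb h2) (T.mem 0 (by norm_num))
      refine ⟨h * p1 u0, mul_mem h1 ⟨u0, rfl⟩, ?_⟩
      rw [← S.qd_inj T.hl hy' hy hq, show h * p1 u0 * l * (h * p1 u0)⁻¹ = h * (p1 u0 * l * (p1 u0)⁻¹) * h⁻¹ by group]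
      congr 2
      rw [← hl1, ← map_inv, ← map_mul, ← map_mul, hu0, e1 2 (by norm_num)]
      rfl
    have horb : ∀ y, CReach D l y → ∃ h ∈ p1.range, h * l * h⁻¹ = y := by
      intro y hy
      induction hy with
      | refl => exact ⟨1, one_mem _, by group⟩
      | @tail b c _ hbc ih =>
        obtain ⟨h, hh, rfl⟩ := ih
        rcases eq_or_ne c (h * l * h⁻¹) with rfl | hne
        · exact ⟨h, hh, rfl⟩
        have h0 : h⁻¹ * c * h ∈ nb D l := by
          have := S.weak.nb_conj h⁻¹ (⟨hbc.2.1, hne, hbc.2.2⟩ : c ∈ nb D (h * l * h⁻¹))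
          rwa [inv_inv, show h⁻¹ * (h * l * h⁻¹) * h = l by group] at this
        obtain ⟨h', hh', e⟩ := hnb _ h0
        exact ⟨h * h', mul_mem hh hh', by
          rw [show h * h' * l * (h * h')⁻¹ = h * (h' * l * h'⁻¹) * h⁻¹ by group, e]; group⟩
    have hcon := (connected_iff_creach ⟨l, T.hl⟩).1 (S.cls.connected_of_primitive S.prim S.exists_pair)
    refine eq_top_iff.2 (S.cls.gen ▸ (Subgroup.closure_le _).2 fun y hy => ?_)
    obtain ⟨h, hh, rfl⟩ := horb y (hcon l T.hl y hy)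
    exact mul_mem (mul_mem hh ⟨L, hl1⟩) (inv_mem hh)
  have hinj2 : Function.Injective p2 := by
    rw [← MonoidHom.ker_eq_bot_iff, Subgroup.eq_bot_iff_forall]
    intro u hu
    have hc : ∀ v : U, Commute u (v * L * v⁻¹) := fun v => by
      have h1 : p2 (v⁻¹ * u * v) = 1 := by rw [map_mul, map_mul, MonoidHom.mem_ker.1 hu, mul_one, ← map_mul, inv_mul_cancel, map_one]
      have h2 := (commute_conj_iff v).2 (Subgroup.mem_centralizer_singleton_iff.1 (hker _ h1) : Commute (v⁻¹ * u * v) L)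
      rwa [show v * (v⁻¹ * u * v) * v⁻¹ = u by group] at h2
    have hgen : ∀ v : U, Commute u v := fun v => by
      have hle : Subgroup.closure {q | ∃ n < certS.g, M.gen n = q} ≤ Subgroup.centralizer ({u} : Set U) := by
        rw [Subgroup.closure_le]
        rintro _ ⟨n, hn, rfl⟩
        obtain ⟨w, hw⟩ := hconj n (g ▸ hn)
        rw [hMg, ← hw]
        exact Subgroup.mem_centralizer_singleton_iff.2 (hc w).eq.symm
      exact (Subgroup.mem_centralizer_singleton_iff.1 (hle (M.closure_gen ▸ Subgroup.mem_top v))).symm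
    have hcG : p1 u ∈ Subgroup.center G := Subgroup.mem_center_iff.2 fun x => by
      obtain ⟨v, rfl⟩ := hall.ge (Subgroup.mem_top x)
      rw [← map_mul, ← map_mul, (hgen v).eq]
    rw [S.center, Subgroup.mem_bot] at hcG
    exact ext' (by rw [hcG, map_one]) (by rw [MonoidHom.mem_ker.1 hu, map_one])
  refine ⟨p1.comp (MulEquiv.ofBijective p2 ⟨hinj2, hsurj2⟩).symm.toMonoidHom, fun x => ?_, ?_, ?_⟩
  · obtain ⟨v, rfl⟩ := hall.ge (Subgroup.mem_top x)
    exact ⟨p2 v, congrArg p1 ((MulEquiv.ofBijective p2 ⟨hinj2, hsurj2⟩).symm_apply_apply v)⟩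
  · rw [← hpl]
    exact (congrArg p1 ((MulEquiv.ofBijective p2 ⟨hinj2, hsurj2⟩).symm_apply_apply L)).trans hl1
  · rw [show CfsgLib.Spor.Fi24.gen .k = p2 (P 1) from (e2 1 (by norm_num)).symm]
    exact (congrArg p1 ((MulEquiv.ofBijective p2 ⟨hinj2, hsurj2⟩).symm_apply_apply (P 1))).trans (e1 1 (by norm_num))

end CfsgLib.KnownB.TypeM24.Unique
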