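import Cfsg.Agent.Lib.KnownB.TypeM24Unique.Setting
import Cfsg.Agent.Lib.KnownB.TypeM23.Count

/-!
The partners of a member in type M(24) modulo the centre: a primitive group of type M(23).
-/

set_option autoImplicit false

namespace CfsgLib.KnownB.TypeM24.Unique

open Cfsg CfsgLib.ThreeTransp CfsgLib.Involutions
open CfsgLib.KnownB.TypeM22 CfsgLib.KnownB.TypeM23

universe u

variable {G : Type u} [Group G] [Finite G] {D : Set G}

/-- Distinct partners have distinct images. -/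
theorem Setting24.qd_inj (S : Setting24 D) {d x y : G} (hd : d ∈ D) (hx : x ∈ nb D d) (hy : y ∈ nb D d)
    (he : qd D d x = qd D d y) : x = y := by
  have hW := S.weak
  have h1 : qd D d (x⁻¹ * y) = 1 := by
    rw [qd_mul (inv_mem (mem_H hx)) (mem_H hy), qd_inv (mem_H hx), he, inv_mul_cancel]
  have hcen : ∀ w ∈ nb D d, Commute w (x * y) := fun w hw => by
    have := (qd_eq_one (mul_mem (inv_mem (mem_H hx)) (mem_H hy))).1 h1 w hw
    rw [hW.inv hx.1] at this
    exact this.symm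
  have hxy : Commute x y := by
    have h4 : x * (x * y) = x * y * x := (hcen x hx).eq
    rw [hW.mul_mul_self hx.1] at h4
    calc x * y = x * (x * y * x) := by rw [← h4]
      _ = y * x := by rw [mul_assoc x y x, hW.mul_mul_self hx.1]
  obtain ⟨w, hw, h5, h6⟩ := S.cls.exists_moved_by_both S.prim hd hx hy hxy
  exact hW.eq_of_commute_mul hw.1 hx.1 hy.1 hxy h5 h6 (hcen w hw)

/-- Partners commute exactly when their images do. -/
theorem Setting24.qd_comm (S : Setting24 D) {d x y : G} (hd : d ∈ D) (hx : x ∈ nb D d) (hy : y ∈ nb D d) :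
    Commute (qd D d x) (qd D d y) ↔ Commute x y := by
  refine ⟨fun hc => ?_, fun hc => ?_⟩
  · by_contra hn
    have h1 := congrArg (qd D d) (S.weak.braid hx.1 hy.1 hn)
    rw [qd_mul (mul_mem (mem_H hx) (mem_H hy)) (mem_H hx), qd_mul (mem_H hx) (mem_H hy),
      qd_mul (mul_mem (mem_H hy) (mem_H hx)) (mem_H hy), qd_mul (mem_H hy) (mem_H hx), hc.eq] at h1
    exact hn (S.qd_inj hd hx hy (mul_left_cancel h1) ▸ Commute.refl x)
  · show _ * _ = _ * _
    rw [← qd_mul (mem_H hx) (mem_H hy), ← qd_mul (mem_H hy) (mem_H hx), hc.eq]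

/-- Two non-commuting partners of a member have a common partner commuting with it. -/
theorem Setting24.exists_common (S : Setting24 D) {d x y : G} (hd : d ∈ D) (hx : x ∈ nb D d) (hy : y ∈ nb D d)
    (hn : ¬ Commute x y) : ∃ b, b ∈ nb D d ∧ Commute x b ∧ Commute y b := by
  obtain ⟨d₀, hd₀, c₀, hc₀, hdc, hns⟩ := S.not_solvable
  obtain ⟨g₀, hg₀⟩ := S.cls.trans d₀ hd₀ x hx.1
  have hn₀ : ¬ Commute d₀ (g₀⁻¹ * y * g₀) := fun h => hn (by
    have := (commute_conj_iff g₀).2 h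
    rwa [hg₀, show g₀ * (g₀⁻¹ * y * g₀) * g₀⁻¹ = y by group] at this)
  obtain ⟨g', k1, k2⟩ := S.cls.rank_three S.prim S.exists_pair hd₀ hc₀
    (by simpa using S.cls.conj g₀⁻¹ y hy.1 : g₀⁻¹ * y * g₀ ∈ D) hdc hn₀
  obtain ⟨g, g1, g2⟩ : ∃ g : G, g * d₀ * g⁻¹ = x ∧ g * c₀ * g⁻¹ = y := ⟨g₀ * g', by
    rw [show g₀ * g' * d₀ * (g₀ * g')⁻¹ = g₀ * (g' * d₀ * g'⁻¹) * g₀⁻¹ by group, k1, hg₀], by
    rw [show g₀ * g' * c₀ * (g₀ * g')⁻¹ = g₀ * (g' * c₀ * g'⁻¹) * g₀⁻¹ by group, k2]; group⟩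
  have hW := S.weak
  obtain ⟨E, hE⟩ : ∃ E, E = nb D d₀ ∩ nb D c₀ := ⟨_, rfl⟩
  have hEb : ∀ {v}, v ∈ E ↔ v ∈ D ∧ Commute d₀ v ∧ Commute c₀ v := fun {v} => by
    rw [hE, ← LocalThree.both_eq_inter hdc]; rfl
  by_contra hno
  push Not at hno
  obtain ⟨δ, hδ⟩ : ∃ δ, δ = g⁻¹ * d * g := ⟨_, rfl⟩
  have hback : ∀ {a b : G}, Commute (g * a * g⁻¹) b ↔ Commute a (g⁻¹ * b * g) := fun {a b} => by
    conv_lhs => rw [show b = g * (g⁻¹ * b * g) * g⁻¹ by group]
    exact commute_conj_iff g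
  have hδE : δ ∈ E := hEb.2 ⟨by rw [hδ]; simpa using S.cls.conj g⁻¹ d hd, by
    rw [hδ, ← hback, g1]; exact hx.2.2.symm, by rw [hδ, ← hback, g2]; exact hy.2.2.symm⟩
  have hiso : ∀ v ∈ E, Commute δ v → v = δ := by
    intro v hv hc
    by_contra hne
    obtain ⟨hvD, v1, v2⟩ := hEb.1 hv
    refine hno (g * v * g⁻¹) ⟨S.cls.conj g v hvD, fun e0 => hne (by rw [hδ, ← e0]; group), ?_⟩
      (g1 ▸ (commute_conj_iff g).2 v1) (g2 ▸ (commute_conj_iff g).2 v2)
    have := (commute_conj_iff g).2 hc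
    rwa [show g * δ * g⁻¹ = d by rw [hδ]; group] at this
  -- the class of the isolated member
  obtain ⟨E', hE'⟩ : ∃ E', E' = inClosure E := ⟨_, rfl⟩
  have hord : ∀ w ∈ E', orderOf w = 2 := fun w hw => by
    subst hE'; rw [← Subgroup.orderOf_coe]; exact S.cls.ts.1 _ (hEb.1 hw).1
  have hcl : ∀ w : Subgroup.closure E, Commute d₀ (w : G) ∧ Commute c₀ (w : G) := fun w => by
    constructor
    all_goals
      refine (Subgroup.mem_centralizer_singleton_iff.1 ((Subgroup.closure_le _).2 (fun v hv => ?_) w.2)).symm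
      first
      | exact Subgroup.mem_centralizer_singleton_iff.2 (hEb.1 hv).2.1.eq.symm
      | exact Subgroup.mem_centralizer_singleton_iff.2 (hEb.1 hv).2.2.eq.symm
  have hconj : ∀ (w : Subgroup.closure E) (v : G), v ∈ E → (w : G) * v * (w : G)⁻¹ ∈ E := fun w v hv => by
    obtain ⟨h1, h2, h3⟩ := hEb.1 hv
    refine hEb.2 ⟨S.cls.conj _ _ h1, ?_, ?_⟩
    · exact ((hcl w).1.mul_right h2).mul_right (hcl w).1.inv_right
    · exact ((hcl w).2.mul_right h3).mul_right (hcl w).2.inv_right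
  have hgrp : IsThreeTranspositionGroup E' := by
    subst hE'
    refine ⟨⟨hord, fun a ha b hb => ?_⟩, fun w v hv => hconj w v hv, Subgroup.closure_closure_coe_preimage⟩
    rcases hW.prod _ (hEb.1 ha).1 _ (hEb.1 hb).1 with h | h
    · exact Or.inl (Subtype.ext h)
    · exact Or.inr (Subtype.ext h)
  have huniq : ∀ a ∈ E, ∀ b ∈ E, Commute a b → a = b := by
    intro a ha b hb hc
    obtain ⟨w, hw⟩ : ∃ w : Subgroup.closure E, (w : G) * a * (w : G)⁻¹ = δ := by
      rcases eq_or_ne a δ with rfl | hne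
      · exact ⟨1, by simp⟩
      · refine ⟨⟨a * δ, mul_mem (Subgroup.subset_closure ha) (Subgroup.subset_closure hδE)⟩, ?_⟩
        exact ts_conj_braid S.cls.ts (hEb.1 ha).1 (hEb.1 hδE).1 fun h => hne (hiso a ha h.symm)
    have h1 := hiso _ (hconj w b hb) (by rw [← hw]; exact (commute_conj_iff _).2 hc)
    exact (mul_left_cancel (mul_right_cancel (hw.trans h1.symm)))
  have hw1 : commutingWidth E' = 1 := by
    subst hE'
    refine IsGreatest.csSup_eq ⟨⟨{el hδE}, Set.singleton_subset_iff.2 hδE, Set.finite_singleton _,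
      by rintro _ rfl _ rfl; exact Commute.refl _, Set.ncard_singleton _⟩, ?_⟩
    rintro n ⟨T, hT, -, hTc, rfl⟩
    refine (Set.ncard_le_one_iff (Set.toFinite T)).2 fun {a b} ha hb => Subtype.ext ?_
    exact huniq _ (hT ha) _ (hT hb) (congrArg Subtype.val (hTc _ ha _ hb).eq)
  have htop := (commutingWidth_eq_one_iff hgrp (d := el hδE) (hE' ▸ hδE)).1 hw1
  haveI : Fact (Nat.Prime 3) := ⟨Nat.prime_three⟩
  haveI : Group.IsNilpotent (pCore 3 (Subgroup.closure E)) :=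
    (Base.isPGroup_pCore 3 (Subgroup.closure E)).isNilpotent
  have hsol : Group.IsSolvable (Subgroup.closure E) := solvable_of_quotient_cyclic inferInstance htop
  subst hE
  exact hns hsol

theorem pCore_three_partners (S : Setting24 D) {d : G} (hd : d ∈ D) :
    pCore 3 (Subgroup.closure (nb D d)) ≤ Subgroup.center (Subgroup.closure (nb D d)) := by
  haveI : Fact (Nat.Prime 3) := ⟨Nat.prime_three⟩
  have hD : IsThreeTranspositionClass D := by
    refine ⟨S.cls.ts, ⟨d, hd, Set.ext fun x => ⟨fun hx => ?_, fun hx => ?_⟩⟩, S.cls.gen⟩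
    · exact isConj_iff.2 (S.cls.trans d hd x hx)
    · obtain ⟨g, rfl⟩ := isConj_iff.1 hx
      exact S.cls.conj g d hd
  refine le_trans (Base.le_pPrimeCore (p := 2) ?_) ?_
  · obtain ⟨k, hk⟩ := IsPGroup.iff_card.1 (Base.isPGroup_pCore 3 (Subgroup.closure (nb D d)))
    rw [hk]
    exact Nat.Coprime.pow_left k (by norm_num)
  · by_contra hno
    obtain ⟨e⟩ := CfsgLib.ThreeTransp.LocalThree.sym5_of_core S.fischer.1 S.fischer.2 hD hd hno
    have h1 := two_pow_dvd_of_typeM24 S.typ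
    rw [Nat.card_congr e.toEquiv, Nat.card_perm, Nat.card_fin] at h1
    norm_num [Nat.factorial] at h1

theorem Setting24.quot (S : Setting24 D) {d : G} (hd : d ∈ D) : Setting23 (Dq D d) := by
  have hW : WeakTS (Dq D d) := (S.weak.sub d).quot _
  have ht := S.typ_all hd
  have hne : ∀ {y}, y ∈ nb D d → qd D d y ≠ 1 := fun {y} hy h1 => by
    obtain ⟨z, hz, hn⟩ := S.cls.not_central_nb S.pCore_two hd hy
    exact hn ((qd_eq_one (mem_H hy)).1 h1 z hz)
  have htr : ∀ x ∈ Dq D d, ∀ y ∈ Dq D d, ∃ k, k * x * k⁻¹ = y := fun x hx y hy => by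
    obtain ⟨x', hx', rfl⟩ := dq_exists hx
    obtain ⟨y', hy', rfl⟩ := dq_exists hy
    obtain ⟨h, hh, e⟩ := S.cls.orb_nb S.prim hd hx' hy'
    exact ⟨qd D d h, by rw [← qd_conj hh (mem_H hx'), e]⟩
  obtain ⟨a, ha, b, hb, hab, cab⟩ := pair_of_typeM23 ht
  have hC : TClass (Dq D d) := by
    haveI := Fact.mk Nat.prime_two
    refine ⟨⟨fun x hx => ?_, hW.prod⟩, hW.conj, hW.gen, htr, a, ha, b, hb, hab⟩
    refine orderOf_eq_prime (by rw [pow_two, hW.sq x hx]) ?_
    obtain ⟨y, hy, rfl⟩ := dq_exists hx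
    exact hne hy
  have hcon : ∀ x ∈ Dq D d, ∀ y ∈ Dq D d, CReach (Dq D d) x y := fun x hx y hy => by
    obtain ⟨x', hx', rfl⟩ := dq_exists hx
    obtain ⟨y', hy', rfl⟩ := dq_exists hy
    by_cases hc : Commute x' y'
    · exact Relation.ReflTransGen.single ⟨qd_mem hx', qd_mem hy', (S.qd_comm hd hx' hy').2 hc⟩
    · obtain ⟨z, hz, c1, c2⟩ := S.exists_common hd hx' hy' hc
      exact (Relation.ReflTransGen.single ⟨qd_mem hx', qd_mem hz, (S.qd_comm hd hx' hz).2 c1⟩).trans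
        (Relation.ReflTransGen.single ⟨qd_mem hz, qd_mem hy', ((S.qd_comm hd hy' hz).2 c2).symm⟩)
  haveI : Fact (Nat.Prime 3) := ⟨Nat.prime_three⟩
  refine TypeM23.Strict23.setting ⟨hC, ((hC.simple_iff_primitive ht.1 ⟨a, ha, b, hb, hab, cab⟩).2).2
    ⟨pCore_bot_of_typeM23 hW ht, pCore_quot_center_bot (pCore_three_partners S hd),
      (connected_iff_creach ⟨a, ha⟩).2 hcon⟩, ht⟩

end CfsgLib.KnownB.TypeM24.Unique
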