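import Cfsg.Agent.Lib.KnownB.TypeM24Unique.SeedCert
import Cfsg.Agent.Lib.Spor.Fi24.Index

/-!
A group on twelve letters satisfying the short relations and one seeded edge has at most 306936 cosets.
-/

set_option autoImplicit false
set_option Elab.async false

namespace CfsgLib.KnownB.TypeM24.Unique

open CfsgLib.BitPerm
open CfsgLib.Spor.Fi24.Clo

theorem same_certS : SameBut cert certS 67 where
  sys := rfl
  len := List.length_set ..
  rel r hr := by
    show (cert.rels.set 67 []).getD r [] = cert.rels.getD r []
    rw [List.getD_eq_getElem?_getD, List.getD_eq_getElem?_getD, List.getElem?_set_ne (Ne.symm hr)]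

theorem avoid_all : [ops0, ops1, ops2, ops3, ops4, ops5, ops6, ops7, ops8, ops9, ops10, ops11].all
    (avoids 67) = true := by decide +kernel

theorem lettersS : certS.okLetters = true := by decide +kernel

theorem seed_bits : (certS.actW seedWord (Nat.shiftLeft 1 13026)).testBit 0 = true ∧
    (certS.act 1 (Nat.shiftLeft 1 13026)).testBit 13026 = true ∧
    seedWord.all (fun y => Nat.blt y certS.g) = true := by
  decide +kernel

theorem seed_facts (hn : certS.okNets = true) : certS.ptW seedWord 0 = 13026 ∧ certS.pt 1 13026 = 13026 := by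
  have e : Nat.shiftLeft 1 13026 = 2 ^ 13026 := Nat.one_shiftLeft _
  obtain ⟨h1, h2, -⟩ := seed_bits
  rw [Sys.testBit_actW hn, e, Nat.testBit_two_pow, decide_eq_true_eq] at h1
  rw [Sys.testBit_act hn, e, Nat.testBit_two_pow, decide_eq_true_eq] at h2
  exact ⟨h1.symm, h2.symm⟩

theorem baseS : certS.okBase = true := by
  have hn : certS.okNets = true := CfsgLib.Spor.Fi24.okNets
  rw [Cert.okBase, hn, Bool.true_and]
  decide +kernel

/-- The bound on the cosets. -/
theorem index_le {Q : Type*} [Group Q] (M : Cert.Model certS Q)
    (hseed : (seedWord.map M.gen).prod * M.gen 1 * ((seedWord.map M.gen).prod)⁻¹ ∈ M.sub) :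
    M.sub.index ≤ 306936 ∧ M.sub.FiniteIndex := by
  have hn : certS.okNets = true := CfsgLib.Spor.Fi24.okNets
  have ha : ∀ l ∈ [ops0, ops1, ops2, ops3, ops4, ops5, ops6, ops7, ops8, ops9, ops10, ops11],
      ∀ s, certS.run l s = cert.run l s := fun l hl s =>
    run_same same_certS l s (List.all_eq_true.1 avoid_all l hl)
  have step : ∀ {l : List Op} {s : St} {B : ℕ} {K : List ℕ},
      l ∈ [ops0, ops1, ops2, ops3, ops4, ops5, ops6, ops7, ops8, ops9, ops10, ops11] →
      Cert.Good M s → Cert.isSt (cert.run l s) B K = true → Cert.Good M ⟨B, K⟩ := fun hl G h =>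
    Cert.good_of_isSt M hn lettersS G (by rw [ha _ hl]; exact h)
  have hi : certS.init = cert.init := rfl
  have g0 := Cert.good_init M baseS
  rw [hi] at g0
  have g1 := step (by simp) g0 run0_ok
  have g2 := step (by simp) g1 run1_ok
  have g3 := step (by simp) g2 run2_ok
  have g4 := step (by simp) g3 run3_ok
  have g5 := step (by simp) g4 run4_ok
  have g6 := step (by simp) g5 run5_ok
  have g7 := step (by simp) g6 run6_ok
  have g8 := step (by simp) g7 run7_ok
  have g9 := step (by simp) g8 run8_ok
  have g10 := step (by simp) g9 run9_ok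
  have g11 := step (by simp) g10 run10_ok
  have g12 := step (by simp) g11 run11_ok
  have hc := closed_ok
  unfold closed at hc
  cases hs : seeded with
  | none => simp [hs, Cert.isFull] at hc
  | some t =>
    simp only [hs] at hc
    suffices G : Cert.Good M t by
      obtain ⟨h1, h2, -⟩ := Cert.of_isFull M hn lettersS G hc
      exact ⟨h1, h2⟩
    unfold seeded at hs
    cases hp : certS.run opsPre ⟨ckB11, ckK11⟩ with
    | none => simp [hp] at hs
    | some s =>
      rw [hp] at hs
      dsimp only at hs
      cases hb : (s.B.testBit 13026 && (certS.path s seedWord).testBit 0) with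
      | false => rw [hb] at hs; exact absurd hs (by simp)
      | true =>
        rw [hb, cond_true, Option.some.injEq] at hs
        subst hs
        simp only [Bool.and_eq_true] at hb
        obtain ⟨q1, q2⟩ := seed_facts hn
        have q3 := seed_bits.2.2
        exact good_seed M hn (Cert.good_run M hn lettersS opsPre g12 hp)
          (fun y hy => Nat.blt_eq.mp (List.all_eq_true.1 q3 y hy)) q1 q2 hb.1 hb.2 hseed

end CfsgLib.KnownB.TypeM24.Unique
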