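import Cfsg.Agent.Lib.KnownB.TypeM24Unique.Seed
import Cfsg.Agent.Lib.KnownB.TypeM24Unique.SeedIndex

/-!
The twelve members satisfy the relations of the closure.
-/

set_option autoImplicit false
set_option maxRecDepth 100000

namespace CfsgLib.KnownB.TypeM24.Unique

open Cfsg CfsgLib.ThreeTransp CfsgLib.Involutions CfsgLib.BitPerm
open CfsgLib.KnownB.TypeM22 CfsgLib.KnownB.TypeM22.Unique
open CfsgLib.KnownB.TypeM23 CfsgLib.KnownB.TypeM23.Unique
open CfsgLib.KnownB.Fi22Mult (val val_nil val_cons val_append)
open CfsgLib.Spor.Fi23 (gen π π_gen π_word)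
open CfsgLib.Spor.Fi23.Auto (gpt dq dq_gpt conj_dq comm_dq_iff)

universe u

/-- the number in the ten of a number among the twelve -/
def toTen (n : ℕ) : ℕ := [0, 0, 0, 1, 2, 3, 4, 5, 6, 9, 7, 8].getD n 0

/-- the edges among the twelve -/
def edge24 (x y : ℕ) : Bool :=
  [(0, 1), (1, 2), (2, 3), (3, 4), (4, 5), (5, 6), (5, 10), (6, 7), (7, 8), (8, 9), (10, 11)].any fun e =>
    (Nat.beq e.1 x && Nat.beq e.2 y) || (Nat.beq e.1 y && Nat.beq e.2 x)

/-- the orders of the products -/
def lab24 (x y : ℕ) : ℕ := bif Nat.beq x y then 1 else bif edge24 x y then 3 else 2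

theorem edge24_ten : ∀ x < 12, 2 ≤ x → ∀ y < 12, 2 ≤ y → edge24 x y = edgeC (toTen x) (toTen y) := by decide +kernel

theorem toTen_lt : ∀ x < 12, toTen x < 10 := by decide

theorem edge24_low : ∀ y < 12, (edge24 0 y = Nat.beq y 1) ∧ (edge24 1 y = (Nat.beq y 0 || Nat.beq y 2)) := by
  decide +kernel

theorem edge24_symm : ∀ x < 12, ∀ y < 12, edge24 x y = edge24 y x := by decide +kernel

/-- the word of type E7 ending in `l` -/
def relSeven : List ℕ := (List.replicate 9 [2, 3, 4, 5, 6, 7, 10]).flatten ++ [0]

/-- the conjugate used in the cube -/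
def thetaW : List ℕ := [10, 5, 6, 4, 5, 10, 7, 6, 5, 4, 3, 4, 5, 6, 7, 10, 5, 4, 6, 5, 10]

/-- the cube -/
def relCube : List ℕ := (List.replicate 3 (11 :: thetaW)).flatten

/-- the letters of the second centre -/
def zLetters : List ℕ := (List.replicate 9 [8, 7, 6, 5, 4, 3, 10]).flatten

/-- the second centre commutes -/
def relZP : List ℕ := zLetters ++ [11] ++ zLetters.reverse ++ [11]

/-- the relators of the certificate are of five kinds -/
noncomputable def okRelsS : Bool :=
  certS.rels.all fun r => List.isEmpty r || (r == relSeven || (r == relCube || (r == relZP ||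
    (List.range 12).any fun x => (List.range 12).any fun y => r == (List.replicate (lab24 x y) [x, y]).flatten)))

theorem okRelsS_ok : okRelsS = true := by decide +kernel

theorem relS_cases {r : List ℕ} (hr : r ∈ certS.rels) :
    r = [] ∨ r = relSeven ∨ r = relCube ∨ r = relZP ∨
      ∃ x < 12, ∃ y < 12, r = (List.replicate (lab24 x y) [x, y]).flatten := by
  have h := List.all_eq_true.1 okRelsS_ok r hr
  simp only [Bool.or_eq_true, List.any_eq_true, List.mem_range, beq_iff_eq, List.isEmpty_iff] at h
  exact h

/-- letters of the cube conjugation -/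
def cubeGens : List Cfsg.Spor.Fi23.Gen := [.h, .d, .e, .c, .d, .h, .f, .e, .d, .c]

/-- letters of the second centre -/
def zGens : List Cfsg.Spor.Fi23.Gen := (List.replicate 9 [.g, .f, .e, .d, .c, .b, .h]).flatten

/-- their numbers in the ten -/
def cubeNums : List ℕ := cubeGens.map num

/-- their numbers in the ten -/
def zNums : List ℕ := zGens.map num

theorem word_facts : thetaW.map toTen = cubeNums ++ [1] ++ cubeNums.reverse ∧ zLetters.map toTen = zNums ∧
    (relSeven.map toTen) = wordAlt ++ [0] ∧ thetaW.all (Nat.ble 2) = true ∧ zLetters.all (Nat.ble 2) = true := by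
  decide +kernel

theorem cube_pt : π (gen .i) (π (cubeGens.map gen).prod (gpt .b)) ≠ π (cubeGens.map gen).prod (gpt .b) := by
  rw [Ne, Fin.ext_iff, π_gen, π_word]
  decide +kernel

theorem z_pt : π (zGens.map gen).prod (gpt .i) = gpt .i := by
  rw [Fin.ext_iff, π_word]
  decide +kernel

variable {G : Type u} [Group G] {D : Set G}

/-- the twelve members -/
def twelve (l k : G) (W : ℕ → G) (n : ℕ) : G :=
  if n = 0 then l else if n = 1 then k else W (toTen n)

theorem twelve_ge (l k : G) (W : ℕ → G) {n : ℕ} (hn : 2 ≤ n) : twelve l k W n = W (toTen n) := by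
  rw [twelve, if_neg (by omega), if_neg (by omega)]

theorem val_twelve (l k : G) (W : ℕ → G) {v : List ℕ} (hv : ∀ n ∈ v, 2 ≤ n) :
    (v.map (twelve l k W)).prod = val W (v.map toTen) := by
  rw [val, List.map_map]
  exact congrArg List.prod (List.map_congr_left fun n hn => twelve_ge l k W (hv n hn))

theorem val_rev (hW : WeakTS D) {W : ℕ → G} {v : List ℕ} (hv : ∀ i ∈ v, W i ∈ D) :
    val W v.reverse = (val W v)⁻¹ := by
  induction v with
  | nil => simp [val_nil]
  | cons a v ih =>
    rw [List.reverse_cons, val_append, ih fun i hi => hv i (List.mem_cons_of_mem _ hi), val_cons, val_cons,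
      val_nil, mul_one, mul_inv_rev, hW.inv (hv a (by simp))]

variable [Finite G]

/-- The bridge with all its properties. -/
structure Full (D : Set G) (l m : G) (W : ℕ → G) (k : G) : Prop where
  top : Top D l m W
  hk : k ∈ D
  kl : ¬ Commute k l
  k0 : ¬ Commute k (W 0)
  k9 : ∀ i, 1 ≤ i → i < 10 → Commute k (W i)
  seed : Commute k (val W seedNums * W 0 * (val W seedNums)⁻¹)

theorem exists_full (S : Setting24 D) {l : G} (hl : l ∈ D) : ∃ m W k, Full D l m W k := by
  obtain ⟨m, W, T⟩ := exists_top S hl
  obtain ⟨k, hk, hkl, hk0, hk1⟩ := exists_bridge S T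
  have hk9 : ∀ i, 1 ≤ i → i < 10 → Commute k (W i) := fun i h1 h2 => by
    rcases Nat.lt_or_ge i 9 with h | h
    · exact hk1 i h1 h
    · obtain rfl : i = 9 := by omega
      exact bridge_last S T hk hkl hk1
  exact ⟨m, W, k, T, hk.1, hkl, hk0, hk9, bridge_seed S T hk.1 hkl hk9⟩

theorem Full.mem {l m k : G} {W : ℕ → G} (F : Full D l m W k) {x : ℕ} (hx : x < 12) :
    twelve l k W x ∈ D := by
  unfold twelve
  split_ifs
  exacts [F.top.hl, F.hk, (F.top.mem _ (toTen_lt x hx)).1]

theorem Full.adj {l m k : G} {W : ℕ → G} (F : Full D l m W k) {x y : ℕ} (hx : x < 12) (hy : y < 12) :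
    Commute (twelve l k W x) (twelve l k W y) ↔ edge24 x y = false := by
  have T := F.top
  have low : ∀ y, y < 12 → (Commute l (twelve l k W y) ↔ edge24 0 y = false) ∧
      (Commute k (twelve l k W y) ↔ edge24 1 y = false) := fun y hy => by
    rw [(edge24_low y hy).1, (edge24_low y hy).2]
    by_cases h0 : y = 0
    · subst h0
      exact ⟨iff_of_true (Commute.refl _) rfl, iff_of_false F.kl (by simp)⟩
    by_cases h1 : y = 1
    · subst h1
      exact ⟨iff_of_false (fun h => F.kl h.symm) (by simp), iff_of_true (Commute.refl _) rfl⟩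
    rw [twelve_ge l k W (by omega : 2 ≤ y)]
    refine ⟨iff_of_true (T.mem _ (toTen_lt y hy)).2.2 (by rw [← Bool.not_eq_true, Nat.beq_eq]; exact h1), ?_⟩
    by_cases h2 : y = 2
    · subst h2
      exact iff_of_false F.k0 (by simp)
    · refine iff_of_true (F.k9 _ ?_ (toTen_lt y hy)) ?_
      · interval_cases y <;> first | contradiction | decide
      · rw [Bool.or_eq_false_iff, ← Bool.not_eq_true, ← Bool.not_eq_true, Nat.beq_eq, Nat.beq_eq]
        exact ⟨h0, h2⟩
  rcases (by omega : x = 0 ∨ x = 1 ∨ 2 ≤ x) with rfl | rfl | h2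
  · exact (low y hy).1
  · exact (low y hy).2
  rcases (by omega : y = 0 ∨ y = 1 ∨ 2 ≤ y) with rfl | rfl | h2'
  · rw [edge24_symm x hx 0 hy, Commute.symm_iff]; exact (low x hx).1
  · rw [edge24_symm x hx 1 hy, Commute.symm_iff]; exact (low x hx).2
  rw [twelve_ge l k W h2, twelve_ge l k W h2', T.adj _ _ (toTen_lt x hx) (toTen_lt y hy),
    edge24_ten x hx h2 y hy h2']

/-- The relations of the closure hold for the twelve members. -/
theorem Full.rels (S : Setting24 D) {l m k : G} {W : ℕ → G} (F : Full D l m W k) {r : List ℕ}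
    (hr : r ∈ certS.rels) : (r.map (twelve l k W)).prod = 1 := by
  have hW := S.weak
  have T := F.top
  have hD : ∀ i, i < 10 → W i ∈ D := fun i hi => (T.mem i hi).1
  obtain ⟨φ, hinj, hφ, -⟩ := T.ten.exists_map (S.quot T.hl)
  have hconj : ∀ (v : List Cfsg.Spor.Fi23.Gen) (x : Cfsg.Spor.Fi23.Gen),
      val W (v.map num) * W (num x) * (val W (v.map num))⁻¹ ∈ nb D l ∧
      qd D l (val W (v.map num) * W (num x) * (val W (v.map num))⁻¹) = φ (dq (π (v.map gen).prod (gpt x))) := by
    intro v x
    obtain ⟨hC, hqC⟩ := qd_val (D := D) (d := l) (W := W) (v := v.map num) fun i hi => by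
      obtain ⟨y, -, rfl⟩ := List.mem_map.1 hi
      exact mem_H (T.mem _ (num_lt y))
    refine ⟨TypeM22.conj_nb hW (commute_closure_nb hC) (T.mem _ (num_lt x)), ?_⟩
    rw [qd_conj hC (mem_H (T.mem _ (num_lt x))), hqC, ← conj_dq, dq_gpt, map_mul, map_mul, map_inv, hφ,
      map_list_prod, List.map_map, show ⇑φ ∘ gen = fun x => qd D l (W (num x)) from funext hφ, val, List.map_map]
    rfl
  obtain ⟨w1, w2, w3, w4, w5⟩ := word_facts
  rcases relS_cases hr with rfl | rfl | rfl | rfl | ⟨x, hx, y, hy, rfl⟩
  · rfl
  · rw [show relSeven = (List.replicate 9 [2, 3, 4, 5, 6, 7, 10]).flatten ++ [0] from rfl, List.map_append,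
      List.prod_append, val_twelve l k W (by decide +kernel)]
    have e : ((List.replicate 9 [2, 3, 4, 5, 6, 7, 10]).flatten).map toTen = wordAlt := by decide +kernel
    rw [e, T.alt_eq S]
    simp [twelve, hW.sq l T.hl]
  · have hth : (thetaW.map (twelve l k W)).prod = val W cubeNums * W (num .b) * (val W cubeNums)⁻¹ := by
      rw [val_twelve l k W (fun n hn => Nat.le_of_ble_eq_true (List.all_eq_true.1 w4 n hn)), w1, val_append,
        val_append, val_rev hW fun i hi => by
          obtain ⟨z, -, rfl⟩ := List.mem_map.1 hi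
          exact hD _ (num_lt z)]
      simp [val, num]
    obtain ⟨hm, hq⟩ := hconj cubeGens .b
    have hn : ¬ Commute (W 8) (val W cubeNums * W (num .b) * (val W cubeNums)⁻¹) := fun h => by
      have := (S.qd_comm T.hl (T.mem 8 (by norm_num)) hm).2 h
      rw [hq, show (8 : ℕ) = num .i from rfl, ← hφ] at this
      exact cube_pt ((comm_dq_iff _ _).1 (hinj (by rw [map_mul, map_mul]; exact this.eq)))
    have h3 := TypeM22.Unique.pow_three hW (hD 8 (by norm_num)) hm.1 hn
    rw [show relCube = (List.replicate 3 (11 :: thetaW)).flatten from rfl]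
    simp only [List.replicate_succ, List.replicate_zero, List.flatten_cons, List.flatten_nil, List.append_nil,
      List.map_append, List.prod_append, List.map_cons, List.prod_cons, hth,
      show twelve l k W 11 = W 8 from rfl]
    simpa [mul_assoc, cubeNums] using h3
  · have hz : (zLetters.map (twelve l k W)).prod = val W zNums := by
      rw [val_twelve l k W (fun n hn => Nat.le_of_ble_eq_true (List.all_eq_true.1 w5 n hn)), w2]
    have hzr : (zLetters.reverse.map (twelve l k W)).prod = (val W zNums)⁻¹ := by
      rw [val_twelve l k W (fun n hn => Nat.le_of_ble_eq_true (List.all_eq_true.1 w5 n (List.mem_reverse.1 hn))),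
        List.map_reverse, w2, val_rev hW fun i hi => by
          obtain ⟨z, -, rfl⟩ := List.mem_map.1 hi
          exact hD _ (num_lt z)]
    obtain ⟨hm, hq⟩ := hconj zGens .i
    rw [z_pt, dq_gpt, hφ] at hq
    have he := S.qd_inj T.hl hm (T.mem 8 (by norm_num)) hq
    rw [show relZP = zLetters ++ [11] ++ zLetters.reverse ++ [11] from rfl]
    simp only [List.map_append, List.prod_append, hz, hzr, List.map_cons, List.map_nil, List.prod_cons,
      List.prod_nil, mul_one, show twelve l k W 11 = W 8 from rfl]
    rw [show val W zNums * W 8 * (val W zNums)⁻¹ = W 8 from he, hW.sq _ (hD 8 (by norm_num))]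
  · have hadj := F.adj hx hy
    unfold lab24
    rcases eq_or_ne x y with rfl | hne
    · simp [hW.sq _ (F.mem hx)]
    rw [show Nat.beq x y = false by rw [← Bool.not_eq_true, Nat.beq_eq]; exact hne, cond_false]
    cases he : edge24 x y
    · have hc := hadj.2 he
      simp only [cond_false, List.replicate_succ, List.replicate_zero, List.flatten_cons, List.flatten_nil,
        List.append_nil, List.map_append, List.prod_append, List.map_cons, List.map_nil, List.prod_cons,
        List.prod_nil, mul_one]
      rw [mul_assoc, ← mul_assoc (twelve l k W y), ← hc.eq, mul_assoc (twelve l k W x), hW.sq _ (F.mem hy), mul_one,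
        hW.sq _ (F.mem hx)]
    · have hn : ¬ Commute (twelve l k W x) (twelve l k W y) := fun h => by
        have := hadj.1 h
        rw [he] at this
        exact Bool.noConfusion this
      have h3 := TypeM22.Unique.pow_three hW (F.mem hx) (F.mem hy) hn
      simp only [cond_true, List.replicate_succ, List.replicate_zero, List.flatten_cons, List.flatten_nil,
        List.append_nil, List.map_append, List.prod_append, List.map_cons, List.map_nil, List.prod_cons,
        List.prod_nil, mul_one]
      simpa [mul_assoc] using h3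

end CfsgLib.KnownB.TypeM24.Unique
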