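import Cfsg.Agent.Lib.KnownB.TypeM24Unique.Setting

/-!
The common partners of two non-commuting members in type M(24) map onto a symmetric group of degree three.
-/

set_option autoImplicit false

namespace CfsgLib.KnownB.TypeM24.Unique

open Cfsg CfsgLib.ThreeTransp CfsgLib.Involutions
open CfsgLib.KnownB.TypeM22 CfsgLib.KnownB.TypeM23

universe u

variable {G : Type u} [Group G] [Finite G] {D : Set G}

theorem perm_three_noncomm : (Equiv.swap 0 1 : Equiv.Perm (Fin 3)) * Equiv.swap 1 2 ≠ Equiv.swap 1 2 * Equiv.swap 0 1 := by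
  decide +kernel

/-- The map to the symmetric group of degree three. -/
theorem exists_sign (S : Setting24 D) {l k : G} (hl : l ∈ D) (hk : k ∈ D) (hn : ¬ Commute l k) :
    ∃ f : G → Equiv.Perm (Fin 3),
      (∀ a ∈ Subgroup.closure (nb D l ∩ nb D k), ∀ b ∈ Subgroup.closure (nb D l ∩ nb D k), f (a * b) = f a * f b) ∧
      ∀ t : Equiv.Perm (Fin 3), ∃ y ∈ nb D l ∩ nb D k, f y ≠ 1 ∧ f y ≠ t := by
  classical
  obtain ⟨-, d₀, hd₀, c₀, hc₀, hdc, -, N, hN, -, ⟨e⟩⟩ := S.typ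
  haveI := hN
  obtain ⟨g₀, hg₀⟩ := S.cls.trans d₀ hd₀ l hl
  obtain ⟨g', k1, k2⟩ := S.cls.rank_three S.prim S.exists_pair hd₀ hc₀
    (by simpa using S.cls.conj g₀⁻¹ k hk : g₀⁻¹ * k * g₀ ∈ D) hdc fun e => hn (by
      have := (commute_conj_iff g₀).2 e
      rwa [hg₀, show g₀ * (g₀⁻¹ * k * g₀) * g₀⁻¹ = k by group] at this)
  obtain ⟨g, g1, g2⟩ : ∃ g : G, g * d₀ * g⁻¹ = l ∧ g * c₀ * g⁻¹ = k := ⟨g₀ * g', by
    rw [show g₀ * g' * d₀ * (g₀ * g')⁻¹ = g₀ * (g' * d₀ * g'⁻¹) * g₀⁻¹ by group, k1, hg₀], by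
    rw [show g₀ * g' * c₀ * (g₀ * g')⁻¹ = g₀ * (g' * c₀ * g'⁻¹) * g₀⁻¹ by group, k2]; group⟩
  obtain ⟨χ, hχ⟩ : ∃ χ : ↥(Subgroup.closure (nb D d₀ ∩ nb D c₀)) →* Equiv.Perm (Fin 3), Function.Surjective χ :=
    ⟨e.toMonoidHom.comp ((QuotientGroup.mk' N).comp
        (QuotientGroup.mk' (Subgroup.center ↥(Subgroup.closure (nb D d₀ ∩ nb D c₀))))),
      e.surjective.comp ((QuotientGroup.mk'_surjective N).comp
        (QuotientGroup.mk'_surjective (Subgroup.center ↥(Subgroup.closure (nb D d₀ ∩ nb D c₀)))))⟩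
  have hin : ∀ y ∈ nb D l ∩ nb D k, g⁻¹ * y * g ∈ nb D d₀ ∩ nb D c₀ := fun y hy => by
    have h1 := S.weak.nb_conj g⁻¹ hy.1
    have h2 := S.weak.nb_conj g⁻¹ hy.2
    rw [inv_inv, show g⁻¹ * l * g = d₀ by rw [← g1]; group] at h1
    rw [inv_inv, show g⁻¹ * k * g = c₀ by rw [← g2]; group] at h2
    exact ⟨h1, h2⟩
  have hout : ∀ y ∈ nb D d₀ ∩ nb D c₀, g * y * g⁻¹ ∈ nb D l ∩ nb D k := fun y hy =>
    ⟨g1 ▸ S.weak.nb_conj g hy.1, g2 ▸ S.weak.nb_conj g hy.2⟩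
  have hcl : ∀ x ∈ Subgroup.closure (nb D l ∩ nb D k), g⁻¹ * x * g ∈ Subgroup.closure (nb D d₀ ∩ nb D c₀) :=
    fun x hx => by
      have hle : Subgroup.closure (nb D l ∩ nb D k) ≤
          (Subgroup.closure (nb D d₀ ∩ nb D c₀)).comap (MulAut.conj g⁻¹).toMonoidHom :=
        (Subgroup.closure_le _).2 fun y hy => by
          rw [SetLike.mem_coe, Subgroup.mem_comap, MulEquiv.coe_toMonoidHom, MulAut.conj_apply, inv_inv]
          exact Subgroup.subset_closure (hin y hy)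
      have := hle hx
      rwa [Subgroup.mem_comap, MulEquiv.coe_toMonoidHom, MulAut.conj_apply, inv_inv] at this
  obtain ⟨f, hf⟩ : ∃ f : G → Equiv.Perm (Fin 3), ∀ x (h : g⁻¹ * x * g ∈ Subgroup.closure (nb D d₀ ∩ nb D c₀)),
      f x = χ ⟨_, h⟩ := ⟨fun x => if h : g⁻¹ * x * g ∈ Subgroup.closure (nb D d₀ ∩ nb D c₀) then χ ⟨_, h⟩ else 1,
    fun x h => dif_pos h⟩
  refine ⟨f, fun a ha b hb => ?_, fun t => ?_⟩
  · rw [hf a (hcl a ha), hf b (hcl b hb), hf _ (hcl _ (mul_mem ha hb)), ← map_mul]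
    exact congrArg χ (Subtype.ext (by rw [Subgroup.coe_mul]; group))
  · by_contra hno
    push Not at hno
    have hall : ∀ w : ↥(Subgroup.closure (nb D d₀ ∩ nb D c₀)), χ w ∈ Subgroup.zpowers t := by
      rintro ⟨w, hw⟩
      induction hw using Subgroup.closure_induction with
      | mem y hy =>
        have he : g⁻¹ * (g * y * g⁻¹) * g = y := by group
        have h1 := hf (g * y * g⁻¹) (by rw [he]; exact Subgroup.subset_closure hy)
        have h2 := hno _ (hout y hy)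
        simp only [he] at h1
        rw [← h1]
        by_cases h3 : f (g * y * g⁻¹) = 1
        · rw [h3]; exact one_mem _
        · rw [h2 h3]; exact Subgroup.mem_zpowers t
      | one => exact (map_one χ).symm ▸ one_mem _
      | mul a b ha hb iha ihb =>
        rw [show (⟨a * b, mul_mem ha hb⟩ : ↥(Subgroup.closure (nb D d₀ ∩ nb D c₀))) = ⟨a, ha⟩ * ⟨b, hb⟩ from rfl, map_mul]
        exact mul_mem iha ihb
      | inv a ha iha =>
        rw [show (⟨a⁻¹, inv_mem ha⟩ : ↥(Subgroup.closure (nb D d₀ ∩ nb D c₀))) = ⟨a, ha⟩⁻¹ from rfl, map_inv]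
        exact inv_mem iha
    obtain ⟨a, ha⟩ := hχ (Equiv.swap 0 1)
    obtain ⟨b, hb⟩ := hχ (Equiv.swap 1 2)
    obtain ⟨m, hm⟩ := Subgroup.mem_zpowers_iff.1 (ha ▸ hall a)
    obtain ⟨n, hn'⟩ := Subgroup.mem_zpowers_iff.1 (hb ▸ hall b)
    exact perm_three_noncomm (by rw [← hm, ← hn', ← zpow_add, ← zpow_add, add_comm])

end CfsgLib.KnownB.TypeM24.Unique
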