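import Cfsg.Agent.Lib.KnownB.TypeM24Unique.Join
import Cfsg.Agent.Lib.KnownB.TypeM24Unique.Lone
import Cfsg.Agent.Lib.KnownB.TypeM24Unique.SymThree

/-!
The bridge commutes with the seed member.
-/

set_option autoImplicit false
set_option maxRecDepth 100000

namespace CfsgLib.KnownB.TypeM24.Unique

open Cfsg CfsgLib.ThreeTransp CfsgLib.Involutions
open CfsgLib.KnownB.TypeM22 CfsgLib.KnownB.TypeM22.Unique
open CfsgLib.KnownB.TypeM23 CfsgLib.KnownB.TypeM23.Unique
open CfsgLib.KnownB.Fi22Mult (val val_nil val_cons val_append)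
open CfsgLib.Spor.Fi23 (gen π π_word)
open CfsgLib.Spor.Fi23.Auto (gpt dq dq_gpt conj_dq comm_dq_iff)

universe u

/-- the letters leading to the seed member -/
def seedGens : List Cfsg.Spor.Fi23.Gen := [.a, .b, .c, .d, .h, .i, .e, .d, .h, .f, .g, .e, .f, .c, .d, .e, .b, .c, .d, .h, .i, .f, .d, .e, .b, .c, .d, .h, .j, .g, .f, .e, .d, .c, .b]

/-- their numbers -/
def seedNums : List ℕ := [0, 1, 2, 3, 7, 8, 4, 3, 7, 5, 6, 4, 5, 2, 3, 4, 1, 2, 3, 7, 8, 5, 3, 4, 1, 2, 3, 7, 9, 6, 5, 4, 3, 2, 1]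

theorem seedNums_eq : seedGens.map num = seedNums := rfl

theorem seed_point : π (seedGens.map gen).prod (gpt .a) = ⟨lonePt, lonePt_lt⟩ := by
  rw [Fin.ext_iff, π_word]
  decide +kernel

theorem perm_three_comm : ∀ a b : Equiv.Perm (Fin 3), (a * a = 1 ∧ b * b = 1 ∧ a * b = b * a) →
    (a = 1 ∨ b = 1 ∨ a = b) := by
  decide +kernel

theorem perm_three_braid {a b : Equiv.Perm (Fin 3)} (ha : a * a = 1) (hb : b * b = 1)
    (h : a * b * a = b * a * b) : a = 1 ↔ b = 1 := by
  constructor <;> rintro rfl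
  · simpa [hb] using h
  · simpa [ha, eq_comm] using h

variable {G : Type u} [Group G] [Finite G] {D : Set G}

/-- The bridge commutes with the seed member. -/
theorem bridge_seed (S : Setting24 D) {l m : G} {W : ℕ → G} (T : Top D l m W) {k : G} (hk : k ∈ D)
    (hkl : ¬ Commute k l) (hk1 : ∀ i, 1 ≤ i → i < 10 → Commute k (W i)) :
    Commute k (val W seedNums * W 0 * (val W seedNums)⁻¹) := by
  have hl := T.hl
  have hW := S.weak
  obtain ⟨E, hE⟩ : ∃ E, E = nb D l ∩ nb D k := ⟨_, rfl⟩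
  obtain ⟨f, fmul, hf⟩ := exists_sign S hl hk fun h => hkl h.symm
  rw [← hE] at fmul hf
  have f1 : f 1 = 1 := by
    have := fmul 1 (one_mem _) 1 (one_mem _)
    rw [one_mul] at this
    exact left_eq_mul.1 this
  have fsq : ∀ y ∈ E, f y * f y = 1 := fun y hy => by
    rw [← fmul y (Subgroup.subset_closure hy) y (Subgroup.subset_closure hy), hW.sq y (hE ▸ hy).1.1, f1]
  have fcomm : ∀ a ∈ E, ∀ b ∈ E, Commute a b → f a = 1 ∨ f b = 1 ∨ f a = f b := fun a ha b hb h =>
    perm_three_comm _ _ ⟨fsq a ha, fsq b hb, by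
      rw [← fmul a (Subgroup.subset_closure ha) b (Subgroup.subset_closure hb),
        ← fmul b (Subgroup.subset_closure hb) a (Subgroup.subset_closure ha), h.eq]⟩
  have fbraid : ∀ a ∈ E, ∀ b ∈ E, ¬ Commute a b → (f a = 1 ↔ f b = 1) := fun a ha b hb h =>
    perm_three_braid (fsq a ha) (fsq b hb) (by
      rw [← fmul a (Subgroup.subset_closure ha) b (Subgroup.subset_closure hb),
        ← fmul b (Subgroup.subset_closure hb) a (Subgroup.subset_closure ha),
        ← fmul _ (mul_mem (Subgroup.subset_closure ha) (Subgroup.subset_closure hb)) a (Subgroup.subset_closure ha),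
        ← fmul _ (mul_mem (Subgroup.subset_closure hb) (Subgroup.subset_closure ha)) b (Subgroup.subset_closure hb),
        hW.braid (hE ▸ ha).1.1 (hE ▸ hb).1.1 h])
  have hWE : ∀ i, 1 ≤ i → i < 10 → W i ∈ E := fun i h1 h2 => hE ▸
    ⟨T.mem i h2, (T.mem i h2).1, fun e => hkl (e ▸ (T.mem i h2).2.2.symm), hk1 i h1 h2⟩
  obtain ⟨t, ht⟩ : ∃ t, t = f (W 9) := ⟨_, rfl⟩
  have hsame : ∀ i, 1 ≤ i → i < 10 → f (W i) = t := by
    have hb : ∀ i j, 1 ≤ i → i < 10 → 1 ≤ j → j < 10 → edgeC i j = true → (f (W i) = 1 ↔ f (W j) = 1) :=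
      fun i j a b c d e => fbraid _ (hWE i a b) _ (hWE j c d) fun h => by
        have := (T.adj i j b d).1 h
        rw [e] at this
        exact Bool.noConfusion this
    have hc : ∀ i j, 1 ≤ i → i < 10 → 1 ≤ j → j < 10 → edgeC i j = false → (f (W i) = 1 ↔ f (W j) = 1) →
        f (W i) = f (W j) := fun i j a b c d e hiff => by
      rcases fcomm _ (hWE i a b) _ (hWE j c d) ((T.adj i j b d).2 e) with r | r | r
      · rw [r, hiff.1 r]
      · rw [r, hiff.2 r]
      · exact r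
    have e12 := hb 1 2 le_rfl (by norm_num) (by norm_num) (by norm_num) (by decide)
    have e23 := hb 2 3 (by norm_num) (by norm_num) (by norm_num) (by norm_num) (by decide)
    have e34 := hb 3 4 (by norm_num) (by norm_num) (by norm_num) (by norm_num) (by decide)
    have e45 := hb 4 5 (by norm_num) (by norm_num) (by norm_num) (by norm_num) (by decide)
    have e56 := hb 5 6 (by norm_num) (by norm_num) (by norm_num) (by norm_num) (by decide)
    have e69 := hb 6 9 (by norm_num) (by norm_num) (by norm_num) (by norm_num) (by decide)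
    have e37 := hb 3 7 (by norm_num) (by norm_num) (by norm_num) (by norm_num) (by decide)
    have e78 := hb 7 8 (by norm_num) (by norm_num) (by norm_num) (by norm_num) (by decide)
    have h9 : ∀ i, 1 ≤ i → i < 10 → (f (W i) = 1 ↔ f (W 9) = 1) := fun i a b => by
      have q6 := e69
      have q5 := e56.trans q6
      have q4 := e45.trans q5
      have q3 := e34.trans q4
      have q2 := e23.trans q3
      have q7 := e37.symm.trans q3
      interval_cases i
      exacts [e12.trans q2, q2, q3, q4, q5, q6, q7, e78.symm.trans q7, Iff.rfl]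
    have g1 : f (W 1) = t :=
      ht ▸ hc 1 9 le_rfl (by norm_num) (by norm_num) (by norm_num) (by decide) (h9 1 le_rfl (by norm_num))
    intro i a b
    rcases eq_or_ne i 6 with rfl | h6
    · exact (hc 6 1 a b le_rfl (by norm_num) (by decide) ((h9 6 a b).trans (h9 1 le_rfl (by norm_num)).symm)).trans g1
    rcases eq_or_ne i 9 with rfl | h9'
    · exact ht.symm
    rw [ht]
    exact hc i 9 a b (by norm_num) (by norm_num) (by interval_cases i <;> first | decide | contradiction) (h9 i a b)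
  obtain ⟨φ, hinj, hφ, -⟩ := T.ten.exists_map (S.quot hl)
  haveI : Finite Cfsg.Spor.Fi23 := CfsgLib.Spor.Fi23.finite
  have hbij : Function.Bijective φ := (Nat.bijective_iff_injective_and_card φ).2 ⟨hinj, by
    rw [(S.quot hl).card_group, CfsgLib.Spor.Fi23.natCard]; norm_num⟩
  have hpt : ∀ y ∈ nb D l, ∃ p, qd D l y = φ (dq p) := fun y hy => by
    obtain ⟨q, hq⟩ := (S.quot hl).cls.trans _ (qd_mem (T.mem 0 (by norm_num))) _ (qd_mem hy)
    obtain ⟨g, rfl⟩ := hbij.2 q
    exact ⟨π g (gpt .a), by rw [← hq, ← conj_dq, dq_gpt, map_mul, map_mul, map_inv, hφ]; rfl⟩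
  obtain ⟨K, hK⟩ : ∃ K, K = Subgroup.closure (W '' {i | 1 ≤ i ∧ i < 10}) := ⟨_, rfl⟩
  have hKE : K ≤ Subgroup.closure E := hK ▸ Subgroup.closure_mono (by rintro _ ⟨i, ⟨a, b⟩, rfl⟩; exact hWE i a b)
  have hKl : ∀ h ∈ K, h ∈ Subgroup.closure (nb D l) ∧ Commute h k := fun h hh => by
    refine ⟨Subgroup.closure_mono (hE ▸ Set.inter_subset_left) (hKE hh), commute_closure_nb (D := D) ?_⟩
    exact Subgroup.closure_mono (hE ▸ Set.inter_subset_right) (hKE hh)
  have hKf : ∀ h ∈ K, f h ∈ Subgroup.zpowers t := fun h hh => by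
    rw [hK] at hh
    induction hh using Subgroup.closure_induction with
    | mem y hy => obtain ⟨i, ⟨a, b⟩, rfl⟩ := hy; rw [hsame i a b]; exact Subgroup.mem_zpowers t
    | one => rw [f1]; exact one_mem _
    | mul a b ha hb iha ihb =>
      rw [← hK] at ha hb
      rw [fmul a (hKE ha) b (hKE hb)]
      exact mul_mem iha ihb
    | inv a ha iha =>
      rw [← hK] at ha
      have := fmul a⁻¹ (inv_mem (hKE ha)) a (hKE ha)
      rw [inv_mul_cancel, f1] at this
      rw [eq_inv_of_mul_eq_one_left this.symm]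
      exact inv_mem iha
  have hlift : ∀ g ∈ K9, ∃ h ∈ K, qd D l h = φ g := fun g hg => by
    induction hg using Subgroup.closure_induction with
    | mem y hy =>
      obtain ⟨x, hx, rfl⟩ := hy
      refine ⟨W (num x), hK ▸ Subgroup.subset_closure ⟨_, ⟨?_, num_lt x⟩, rfl⟩, (hφ x).symm⟩
      cases x <;> first | exact absurd rfl hx | decide
    | one => exact ⟨1, one_mem _, by rw [qd_one, map_one]⟩
    | mul a b _ _ iha ihb =>
      obtain ⟨u, hu, eu⟩ := iha
      obtain ⟨v, hv, ev⟩ := ihb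
      exact ⟨u * v, mul_mem hu hv, by rw [qd_mul (hKl u hu).1 (hKl v hv).1, eu, ev, map_mul]⟩
    | inv a _ iha =>
      obtain ⟨u, hu, eu⟩ := iha
      exact ⟨u⁻¹, inv_mem hu, by rw [qd_inv (hKl u hu).1, eu, map_inv]⟩
  have hphi : ∀ a b : Cfsg.Spor.Fi23, Commute (φ a) (φ b) ↔ a * b = b * a := fun a b =>
    ⟨fun h => hinj (by rw [map_mul, map_mul]; exact h.eq), fun h => (show Commute a b from h).map φ⟩
  obtain ⟨y, hy, hy1, hyt⟩ := hf t
  obtain ⟨p, hp⟩ := hpt y (hE ▸ hy).1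
  -- `t` is not trivial
  have ht1 : t ≠ 1 := fun e0 => by
    obtain ⟨x, hx, hmove⟩ := noCommon p
    refine hmove ((comm_dq_iff _ _).1 ((hphi _ _).1 ?_))
    have hi : 1 ≤ num x ∧ num x < 10 := ⟨by cases x <;> first | exact absurd rfl hx | decide, num_lt x⟩
    rw [hφ, ← hp, S.qd_comm hl (T.mem _ hi.2) (hE ▸ hy).1]
    by_contra hn
    exact hy1 ((fbraid _ (hWE _ hi.1 hi.2) y hy hn).1 ((hsame _ hi.1 hi.2).trans e0))
  rcases tied_or_lone p with ⟨g, hg, x, hx, hfix⟩ | ⟨g, hg, hgp⟩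
  · exfalso
    obtain ⟨h, hh, eh⟩ := hlift g hg
    have hi : 1 ≤ num x ∧ num x < 10 := ⟨by cases x <;> first | exact absurd rfl hx | decide, num_lt x⟩
    have hz : h * W (num x) * h⁻¹ ∈ E := hE ▸ ⟨TypeM22.conj_nb hW (commute_closure_nb (hKl h hh).1) (hE ▸ hWE _ hi.1 hi.2).1,
      TypeM22.conj_nb hW (hKl h hh).2 (hE ▸ hWE _ hi.1 hi.2).2⟩
    have hfz : f (h * W (num x) * h⁻¹) = t := by
      have hWK : W (num x) ∈ K := hK ▸ Subgroup.subset_closure ⟨_, hi, rfl⟩
      rw [fmul _ (hKE (mul_mem hh hWK)) _ (hKE (inv_mem hh)), fmul h (hKE hh) _ (hKE hWK), hsame _ hi.1 hi.2]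
      have hinv := fmul h (hKE hh) h⁻¹ (hKE (inv_mem hh))
      rw [mul_inv_cancel, f1] at hinv
      obtain ⟨n, hn⟩ := Subgroup.mem_zpowers_iff.1 (hKf h hh)
      rw [eq_inv_of_mul_eq_one_right hinv.symm, ← hn, ((Commute.refl t).zpow_left n).eq, mul_inv_cancel_right]
    have hc : Commute (h * W (num x) * h⁻¹) y := by
      rw [← S.qd_comm hl (hE ▸ hz).1 (hE ▸ hy).1, qd_conj (hKl h hh).1 (mem_H (T.mem _ hi.2)), eh, ← hφ, hp,
        ← map_inv, ← map_mul, ← map_mul, hphi]
      exact (comm_dq_iff _ _).2 hfix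
    rcases fcomm _ hz y hy hc with r | r | r
    · exact ht1 (hfz.symm.trans r)
    · exact hy1 r
    · exact hyt (r.symm.trans hfz)
  · obtain ⟨h, hh, eh⟩ := hlift g hg
    have hc : h⁻¹ * y * h⁻¹⁻¹ ∈ nb D l := TypeM22.conj_nb hW (commute_closure_nb (hKl h hh).1).inv_left (hE ▸ hy).1
    have hv : ∀ i ∈ seedNums, W i ∈ Subgroup.closure (nb D l) := fun i hi =>
      mem_H (T.mem i ((by decide : ∀ i ∈ seedNums, i < 10) i hi))
    obtain ⟨hC, hqC⟩ := qd_val hv
    have hs : val W seedNums * W 0 * (val W seedNums)⁻¹ ∈ nb D l :=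
      TypeM22.conj_nb hW (commute_closure_nb hC) (T.mem 0 (by norm_num))
    have e : qd D l (h⁻¹ * y * h⁻¹⁻¹) = qd D l (val W seedNums * W 0 * (val W seedNums)⁻¹) := by
      rw [qd_conj (inv_mem (hKl h hh).1) (mem_H (hE ▸ hy).1), qd_inv (hKl h hh).1, eh, hp, ← hgp, ← map_inv,
        ← map_inv, ← map_mul, ← map_mul, conj_dq, ← Equiv.Perm.mul_apply, ← map_mul, inv_mul_cancel, map_one,
        Equiv.Perm.one_apply, ← seed_point, ← conj_dq, dq_gpt, map_mul, map_mul, map_inv, hφ, map_list_prod,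
        List.map_map, show ⇑φ ∘ gen = fun x => qd D l (W (num x)) from funext hφ,
        qd_conj hC (mem_H (T.mem 0 (by norm_num))), hqC, val, ← seedNums_eq, List.map_map]
      rfl
    rw [← S.qd_inj hl hc hs e]
    exact ((hKl h hh).2.symm.inv_right.mul_right (hE ▸ hy).2.2.2).mul_right (hKl h hh).2.symm.inv_right.inv_right

end CfsgLib.KnownB.TypeM24.Unique
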