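import Cfsg.Agent.Lib.BitPerm.Closure

/-!
Steps which close the coset table of Fi24 from one seeded edge, without the long relation (generated data).
-/

set_option Elab.async false

namespace CfsgLib.KnownB.TypeM24.Unique

open CfsgLib.BitPerm

/-- the steps before the seed -/
def opsPre : List Op :=
  [.rot 6 0, .rot 36 1, .rot 16 0, .rot 21 0, .rot 26 1, .rot 29 1, .rot 13 1, .rot 27 1,
   .rot 52 0, .rot 52 1, .rot 40 0, .rot 53 1, .rot 43 1, .rot 4 1, .rot 32 0, .rot 1 0,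
   .rot 1 1]

/-- the steps after the seed -/
def opsPost : List Op :=
  [.rot 4 1, .rot 50 0, .rot 23 1, .rot 48 0, .rot 38 0, .rot 31 1, .rot 49 1, .rot 45 1,
   .rot 65 1, .rot 54 1, .rot 47 0, .rot 14 1, .rot 38 0, .rot 30 0, .rot 21 0, .rot 39 0,
   .rot 45 1, .rot 51 1, .rot 56 1, .rot 54 0, .rot 58 1, .rot 65 1, .rot 23 1, .rot 32 0,
   .rot 61 1, .rot 58 0, .rot 11 0, .rot 46 1, .rot 50 1, .rot 31 0, .rot 21 0, .rot 56 1,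
   .rot 60 1, .rot 24 1, .rot 22 1, .rot 40 1, .rot 44 1, .rot 22 0, .rot 11 0, .rot 19 1,
   .rot 41 1, .rot 52 1, .rot 39 1, .rot 46 0, .rot 60 1, .rot 57 1, .rot 12 0, .rot 59 0,
   .rot 4 1, .rot 43 1, .rot 55 0, .rot 34 1, .rot 2 1, .rot 20 1, .rot 6 1, .rot 14 1,
   .rot 27 1, .rot 3 1, .rot 7 1, .rot 9 1, .rot 1 1, .rot 8 1, .rot 11 1, .rot 13 0,
   .rot 14 0, .rot 15 0, .rot 16 0, .rot 17 0, .rot 18 0, .rot 19 0, .rot 20 0, .rot 21 1,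
   .rot 22 0, .rot 23 0, .rot 24 0, .rot 25 0, .rot 26 0, .rot 27 0, .rot 28 0, .rot 29 0,
   .rot 30 1, .rot 31 0, .rot 32 0, .rot 33 0, .rot 34 0, .rot 35 0, .rot 36 0, .rot 37 0,
   .rot 38 1, .rot 39 0, .rot 40 0, .rot 41 0, .rot 42 0, .rot 43 0, .rot 44 0, .rot 45 1,
   .rot 46 0, .rot 47 0, .rot 48 0, .rot 49 1, .rot 50 0, .rot 51 1, .rot 52 0, .rot 53 0,
   .rot 54 0, .rot 54 1, .rot 55 0, .rot 56 1, .rot 57 0, .rot 58 0, .rot 58 1, .rot 59 0,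
   .rot 60 1, .rot 61 0, .rot 61 1, .rot 62 0, .rot 63 0, .rot 63 1, .rot 64 0, .rot 65 1,
   .rot 1 1, .rot 2 1, .rot 3 1, .rot 4 1, .rot 5 1, .rot 6 1, .rot 7 1, .rot 8 1,
   .rot 9 1, .rot 10 1, .rot 12 0, .rot 12 1, .rot 13 0, .rot 13 1, .rot 14 0, .rot 14 1,
   .rot 15 0, .rot 15 1, .rot 16 0, .rot 16 1, .rot 17 0, .rot 17 1, .rot 18 0, .rot 18 1,
   .rot 19 1, .rot 20 1, .rot 21 1, .rot 22 0, .rot 22 1, .rot 23 0, .rot 23 1, .rot 24 0,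
   .rot 24 1, .rot 25 0, .rot 25 1, .rot 26 0, .rot 26 1, .rot 27 0, .rot 27 1, .rot 28 0,
   .rot 28 1, .rot 29 1, .rot 30 1, .rot 31 0, .rot 31 1, .rot 32 0, .rot 32 1, .rot 33 0,
   .rot 33 1, .rot 34 0, .rot 34 1, .rot 35 0, .rot 35 1, .rot 36 0, .rot 36 1, .rot 37 0,
   .rot 37 1, .rot 38 1, .rot 39 0, .rot 39 1, .rot 40 0, .rot 40 1, .rot 41 0, .rot 41 1,
   .rot 42 1, .rot 43 0, .rot 43 1, .rot 44 1, .rot 45 0, .rot 45 1, .rot 46 0, .rot 46 1,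
   .rot 47 0, .rot 47 1, .rot 48 0, .rot 48 1, .rot 49 0, .rot 49 1, .rot 50 0, .rot 50 1,
   .rot 51 0, .rot 51 1, .rot 52 0, .rot 52 1, .rot 53 0, .rot 53 1, .rot 54 0, .rot 54 1,
   .rot 55 0, .rot 55 1, .rot 56 0, .rot 56 1, .rot 57 0, .rot 57 1, .rot 58 0, .rot 58 1,
   .rot 59 0, .rot 59 1, .rot 60 0, .rot 61 0, .rot 61 1, .rot 62 0, .rot 62 1, .rot 63 0,
   .rot 63 1, .rot 64 0, .rot 64 1, .rot 65 0, .rot 11 1, .rot 12 1, .rot 13 0, .rot 13 1,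
   .rot 14 0, .rot 14 1, .rot 15 1, .rot 16 1, .rot 17 1, .rot 18 1, .rot 19 1, .rot 21 1,
   .rot 22 0, .rot 22 1, .rot 23 0, .rot 23 1, .rot 24 1, .rot 25 1, .rot 26 1, .rot 27 1,
   .rot 28 1, .rot 29 1, .rot 30 1, .rot 31 0, .rot 31 1, .rot 32 1, .rot 33 1, .rot 34 1,
   .rot 35 1, .rot 36 1, .rot 38 1, .rot 39 1, .rot 40 1, .rot 41 1, .rot 42 1, .rot 45 0,
   .rot 45 1, .rot 46 0, .rot 46 1, .rot 47 0, .rot 47 1, .rot 48 0, .rot 48 1, .rot 49 1,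
   .rot 51 0, .rot 51 1, .rot 52 0, .rot 52 1, .rot 53 0, .rot 53 1, .rot 54 0, .rot 54 1,
   .rot 55 0, .rot 56 0, .rot 57 0, .rot 58 0, .rot 58 1, .rot 59 0, .rot 61 0, .rot 62 0,
   .rot 4 1, .rot 6 1, .rot 7 1, .rot 12 0, .rot 14 1, .rot 16 1, .rot 17 1, .rot 22 1,
   .rot 25 1, .rot 26 1]

/-- the path to the seeded point -/
def seedWord : List ℕ := [1, 0, 2, 1, 3, 4, 5, 6, 7, 8, 9, 10, 5, 4, 3, 6, 5, 7, 11, 10, 5, 4, 3, 6, 5, 4, 7, 6, 8, 7, 10, 5, 6, 11, 10, 5, 4, 3, 2]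

end CfsgLib.KnownB.TypeM24.Unique
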