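import Cfsg.Agent.Lib.KnownB.TypeM24Unique.SeedStep
import Cfsg.Agent.Lib.KnownB.TypeM24Unique.SeedData
import Cfsg.Agent.Lib.Spor.Fi24.CloRun11

/-!
The coset table of Fi24 closes from one seeded edge without the long relation.
-/

set_option autoImplicit false
set_option Elab.async false

namespace CfsgLib.KnownB.TypeM24.Unique

open CfsgLib.BitPerm
open CfsgLib.Spor.Fi24 (sys)
open CfsgLib.Spor.Fi24.Clo (ckB11 ckK11)

/-- the certificate without the long relation -/
noncomputable def certS : Cert :=
  { CfsgLib.Spor.Fi24.Clo.cert with rels := CfsgLib.Spor.Fi24.Clo.cert.rels.set 67 [] }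

/-- the state after the steps before the seed, with the seed -/
noncomputable def seeded : Option St :=
  match certS.run opsPre ⟨ckB11, ckK11⟩ with
  | none => none
  | some s =>
    bif s.B.testBit 13026 && (certS.path s seedWord).testBit 0 then some (seedSt s 1 13026) else none

/-- the final state -/
noncomputable def closed : Option St :=
  match seeded with
  | none => none
  | some s => certS.run opsPost s

theorem closed_ok : certS.isFull closed 306936 = true := by decide +kernel

end CfsgLib.KnownB.TypeM24.Unique
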