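import Cfsg.Agent.Lib.BitPerm.Closure

/-!
A step of the closure which knows one edge from outside, and the change of relators not used by the steps.
-/

set_option autoImplicit false

namespace CfsgLib.KnownB.TypeM24.Unique

open CfsgLib.BitPerm

variable {C : Cert} {Q : Type*} [Group Q] (M : Cert.Model C Q)

/-- one more known step -/
noncomputable def seedSt (s : St) (x q : ℕ) : St := ⟨s.B, orAt s.K x (2 ^ q)⟩

/-- A step is known at a point when it maps into the subgroup there. -/
theorem good_seed (hn : C.okNets = true) {s : St} (G : Cert.Good M s) {x : ℕ} {w : List ℕ} {q : ℕ}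
    (hw : ∀ y ∈ w, y < C.g) (hq : C.ptW w 0 = q) (hfix : C.pt x q = q)
    (hB : s.B.testBit q = true) (hp : (C.path s w).testBit 0 = true)
    (hsub : (w.map M.gen).prod * M.gen x * ((w.map M.gen).prod)⁻¹ ∈ M.sub) :
    Cert.Good M (seedSt s x q) := by
  obtain ⟨val, I⟩ := G
  obtain ⟨-, h2⟩ := Cert.path_sound M hn I w hw 0 hp
  rw [I.val_zero, one_mul, hq] at h2
  refine ⟨val, ⟨I.zero_mem, I.val_zero, I.reach, ?_⟩⟩
  intro z hz c hc
  rcases Cert.get_orAt (B := s.B) hc with hc1 | ⟨rfl, hc1⟩
  · exact I.known z hz c hc1
  · rw [Nat.testBit_two_pow, decide_eq_true_eq] at hc1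
    subst hc1
    refine ⟨hB, show s.B.testBit (C.pt z q) = true by rw [hfix]; exact hB, ?_⟩
    rw [hfix]
    generalize (w.map M.gen).prod = W at hsub h2
    generalize val q = V at h2 ⊢
    have := M.sub.mul_mem (M.sub.mul_mem (M.sub.inv_mem h2) hsub) h2
    convert this using 1
    group

/-- The two certificates differ in relators only at one place. -/
structure SameBut (C C' : Cert) (n : ℕ) : Prop where
  sys : C'.toSys = C.toSys
  len : C'.rels.length = C.rels.length
  rel : ∀ r, r ≠ n → C'.rels.getD r [] = C.rels.getD r []

/-- steps not using a relator -/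
def avoids (n : ℕ) (l : List Op) : Bool :=
  l.all fun o => match o with
    | .define _ => true
    | .rot r _ => !Nat.beq r n

theorem path_same {C C' : Cert} (h : C'.toSys = C.toSys) (s : St) :
    ∀ w : List ℕ, C'.path s w = C.path s w
  | [] => rfl
  | [x] => rfl
  | x :: y :: w => by simp only [Cert.path, path_same h s (y :: w), h]

theorem step_same {C C' : Cert} {n : ℕ} (h : SameBut C C' n) (s : St) {o : Op} (ho : avoids n [o] = true) :
    C'.step s o = C.step s o := by
  cases o with
  | define x => simp only [Cert.step, Cert.stepDef, h.sys]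
  | rot r i =>
    simp only [avoids, List.all_cons, List.all_nil, Bool.and_true, Bool.not_eq_true'] at ho
    have hr : r ≠ n := fun e => by rw [e, Nat.beq_refl] at ho; exact Bool.noConfusion ho
    simp only [Cert.step, Cert.stepRot, h.rel r hr, h.len, h.sys, path_same h.sys]

theorem run_same {C C' : Cert} {n : ℕ} (h : SameBut C C' n) :
    ∀ (l : List Op) (s : St), avoids n l = true → C'.run l s = C.run l s
  | [], _, _ => rfl
  | o :: l, s, ha => by
    simp only [avoids, List.all_cons, Bool.and_eq_true] at ha
    have ho : avoids n [o] = true := by simp [avoids, ha.1]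
    simp only [Cert.run, step_same h s ho]
    cases C.step s o with
    | none => rfl
    | some t => exact run_same h l t (by simpa [avoids] using ha.2)

end CfsgLib.KnownB.TypeM24.Unique
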