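import Cfsg.Agent.Lib.KnownB.TypeM23.Kernel
import Cfsg.Agent.Lib.ThreeTransp.LocalThree.Main
import Cfsg.Agent.Lib.CharsMore.M24Local.Layer
import Cfsg.Agent.Lib.KnownB.TypeM24Unique.CoresM23
import Cfsg.Agent.Lib.KnownB.TypeM24Unique.CoreQuot

/-!
The partners of a member in a group of type M(24), modulo the centre, form a group of type M(23).
-/

set_option autoImplicit false

namespace CfsgLib.KnownB.TypeM24.Unique

open Cfsg CfsgLib.ThreeTransp CfsgLib.Involutions
open CfsgLib.KnownB.TypeM22 CfsgLib.KnownB.TypeM23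
open scoped commutatorElement

universe u

variable {G : Type u} [Group G] [Finite G] {D : Set G}

/-- The standing hypotheses. -/
structure Setting24 (D : Set G) : Prop where
  cls : TClass D
  prim : IsPrimitiveUnderConj D
  typ : IsOfTypeM24 G D

theorem setting_of (hD : IsThreeTranspositionGroup D) (hp : IsPrimitiveUnderConj D) (ht : IsOfTypeM24 G D) :
    Setting24 D := ⟨tclass_of_primitive hD hp, hp, ht⟩

omit [Finite G] in
theorem Setting24.group (S : Setting24 D) : IsThreeTranspositionGroup D := ⟨S.cls.ts, S.cls.conj, S.cls.gen⟩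

omit [Finite G] in
theorem Setting24.weak (S : Setting24 D) : WeakTS D := weakTS_of_group S.group

omit [Finite G] in
theorem Setting24.center (S : Setting24 D) : Subgroup.center G = ⊥ := S.typ.1

omit [Finite G] in
theorem Setting24.partners (S : Setting24 D) [Finite G] : HasPartnerData D := hasPartnerData S.group (Or.inr S.typ)

omit [Finite G] in
/-- In type M(23) some two distinct members commute. -/
theorem pair_of_typeM23 {H : Type u} [Group H] {E : Set H} (ht : IsOfTypeM23 H E) :
    ∃ a ∈ E, ∃ b ∈ E, a ≠ b ∧ Commute a b := by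
  obtain ⟨-, d, hd, c, -, -, h22, -⟩ := ht
  obtain ⟨a, ha, -⟩ := pair_of_typeM22 h22
  obtain ⟨y, hy, -⟩ := dq_exists (D := E) (d := d) ha
  exact ⟨d, hd, y, hy.1, hy.2.1.symm, hy.2.2⟩

theorem Setting24.typ_all (S : Setting24 D) {d : G} (hd : d ∈ D) : IsOfTypeM23 (Qd D d) (Dq D d) := by
  obtain ⟨-, d₀, hd₀, c, -, -, hT, -⟩ := S.typ
  obtain ⟨g, hg⟩ := S.cls.trans d₀ hd₀ d hd
  have hS : MulAut.conj g '' nb D d₀ = nb D d := by
    rw [← hg]
    ext z
    constructor
    · rintro ⟨y, hy, rfl⟩; exact S.weak.nb_conj g hy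
    · intro hz
      refine ⟨g⁻¹ * z * g, ?_, by simp [mul_assoc]⟩
      have := S.weak.nb_conj g⁻¹ hz
      rwa [inv_inv, show g⁻¹ * (g * d₀ * g⁻¹) * g = d₀ by group] at this
  have h1 := CfsgLib.Spor.FischerTypes.typeM23_congr
    (CfsgLib.Spor.FischerTypes.quotCongr (MulAut.conj g) hS) _ hT
  exact (congrArg (IsOfTypeM23 _) (CfsgLib.Spor.FischerTypes.image_quotCongr (MulAut.conj g) hS)).mp h1

theorem Setting24.exists_pair (S : Setting24 D) : ∃ a ∈ D, ∃ b ∈ D, a ≠ b ∧ Commute a b := by
  obtain ⟨d, hd, -⟩ := S.cls.two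
  obtain ⟨a, ha, -⟩ := pair_of_typeM23 (S.typ_all hd)
  obtain ⟨y, hy, -⟩ := dq_exists ha
  exact ⟨d, hd, y, hy.1, hy.2.1.symm, hy.2.2⟩

theorem Setting24.pCore_two (S : Setting24 D) : pCore 2 G ≤ Subgroup.center G :=
  (S.cls.pCores_central_of_primitive S.prim S.exists_pair).1

/-- The common partners of the special pair generate a group which is not solvable. -/
theorem Setting24.not_solvable (S : Setting24 D) : ∃ d ∈ D, ∃ c ∈ D, ¬ Commute d c ∧
    ¬ Group.IsSolvable (Subgroup.closure (nb D d ∩ nb D c)) := by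
  obtain ⟨-, d, hd, c, hc, hdc, -, N, hN, ⟨e⟩, -⟩ := S.typ
  refine ⟨d, hd, c, hc, hdc, fun hsol => ?_⟩
  haveI := hN
  haveI h1 := TypeM23.solvable_quot hsol (Subgroup.center ↥(Subgroup.closure (nb D d ∩ nb D c)))
  haveI h2 : Group.IsSolvable N := @Group.isSolvable_of_isSolvable_injective _ _ _ _ _ N.subtype_injective h1
  haveI h3 : Group.IsSolvable (POmega (ZMod 3) (quadFormPlus 4 (ZMod 3))) :=
    Group.isSolvable_of_surjective (f := e.toMonoidHom) e.surjective
  obtain ⟨hs, hna⟩ := CfsgLib.CharsMore.M24Local.pOmega_plus_simple_nonabelian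
  haveI := hs
  exact hna ⟨⟨fun a b => (IsSimpleGroup.comm_iff_isSolvable (G := POmega (ZMod 3) (quadFormPlus 4 (ZMod 3)))).2 h3 a b⟩⟩

theorem Setting24.fischer (S : Setting24 D) :
    (∀ N : Subgroup G, N.Normal → Group.IsSolvable ↥N → N = ⊥) ∧
      ⁅commutator G, commutator G⁆ = commutator G := by
  have hs : IsSimpleGroup (commutator G) := (S.cls.simple_iff_primitive S.center S.exists_pair).1.2 S.prim
  haveI := hs
  have hna : ¬ Group.IsSolvable (commutator G) := fun h => by
    haveI := h
    haveI : Group.IsSolvable G := by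
      refine Group.isSolvable_of_ker_le_range (commutator G).subtype (Abelianization.of (G := G)) ?_
      rw [Abelianization.ker_of, Subgroup.range_subtype]
    obtain ⟨d, -, c, -, -, hn⟩ := S.not_solvable
    exact hn inferInstance
  have hperf : ⁅commutator G, commutator G⁆ = commutator G := by
    haveI : ⁅commutator G, commutator G⁆.Normal := inferInstance
    rcases hs.eq_bot_or_eq_top_of_normal (commutator (commutator G)) inferInstance with r | r
    · refine absurd (Group.isSolvable_of_comm fun a b => ?_) hna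
      have := Subgroup.commutator_mem_commutator (Subgroup.mem_top a) (Subgroup.mem_top b)
      rw [← commutator_def, r, Subgroup.mem_bot, commutatorElement_eq_one_iff_mul_comm] at this
      exact this
    · rw [← Subgroup.range_subtype (commutator G), MonoidHom.range_eq_map, ← Subgroup.map_commutator,
        ← commutator_def, r]
  refine ⟨fun N hN hsol => ?_, hperf⟩
  haveI := hN
  rcases hs.eq_bot_or_eq_top_of_normal (N.subgroupOf (commutator G)) inferInstance with r | r
  · rw [eq_bot_iff, ← S.center]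
    intro n hn
    refine Subgroup.mem_center_iff.2 fun g => ?_
    have h2 : ⁅g, n⁆ ∈ N := by
      rw [commutatorElement_def]
      exact mul_mem (hN.conj_mem n hn g) (inv_mem hn)
    have h3 : (⟨⁅g, n⁆, Subgroup.commutator_mem_commutator (Subgroup.mem_top g) (Subgroup.mem_top n)⟩ :
        commutator G) ∈ N.subgroupOf (commutator G) := h2
    rw [r, Subgroup.mem_bot] at h3
    exact commutatorElement_eq_one_iff_mul_comm.1 (congrArg Subtype.val h3)
  · refine absurd ?_ hna
    rw [Subgroup.subgroupOf_eq_top] at r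
    haveI := hsol
    exact Group.isSolvable_of_isSolvable_injective (Subgroup.inclusion_injective r)

end CfsgLib.KnownB.TypeM24.Unique
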