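import Cfsg.Agent.Lib.KnownB.TypeM23Unique.Tree

/-!
Case distinctions for the end of the short path: it commutes with the bridge.
-/

set_option autoImplicit false
set_option maxRecDepth 100000

namespace CfsgLib.KnownB.TypeM24.Unique

open CfsgLib.KnownB.TypeM22.Unique (Tree)

/-- the fifth of the path is not outside -/
def treeJoin2 : Tree :=
  .node [1, 4, 5, 6, 7] [.node [1, 256, 257, 258, 259] [.node [1, 1024, 1025, 1026, 1027] [.node [1, 1280, 1281, 1282, 1283] [.node [1, 1344, 1345] [.node [320, 1024, 1344, 1664, 1984] [.node [4, 1344, 1348] [.node [65, 1281, 1344] [.node [257, 1089, 1344] [.node [259, 1344, 1857] [.node [321, 1025, 1344] [.node [1026, 1344, 1987] [.node [1282, 1344, 1475] [.node [1283, 1344, 1410] [.node [4, 256, 260] [.node [4, 321, 325] [.node [4, 1281, 1285] [.node [4, 1282, 1286] [.node [4, 1345, 1349] [.node [4, 1664, 1672] [.node [256, 1026, 1282, 1538, 1794] [.node [256, 1219, 1475, 1731, 1987] [.node [20, 256, 276] [.node [69, 256, 325] [.node [256, 1029, 1285] [.node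 [256, 1092, 1348] [.node [256, 1093, 1349] [.node [256, 1160, 1672] [.node [65, 1024, 1089, 1154, 1219] [.node [257, 1024, 1281, 1538, 1795] [.node [386, 1024, 1410, 1731, 1857] [.node [20, 1024, 1044] [.node [276, 1024, 1300] [.node [64, 1282, 1410] [.node [69, 1282, 1485] [.node [1092, 1282, 1929] [.node [1160, 1282, 1607] [.node [1282, 1345, 1472] [.node [20, 386, 406] [.node [20, 1093, 1105] [.node [20, 1154, 1174] [.node [20, 1929, 1953] [.node [5, 1472, 1482] [.node [7, 1475, 1476, 1482, 1485] [.node [400, 1345, 1953] [.node [80, 1300, 1348] [.node [406, 1348, 1967] [.node [1174, 1348, 1831] [.node [1051, 1475, 1967] [.node [1475, 1723, 1831] [.node [124, 260, 400] [.node [260, 1044, 1296] [.node [260, 1051, 1555] [.node [260, 1197, 1953] [.node [80, 1286, 1526] [.node [1349, 1428, 1526] [.node [276, 1323, 1795] [.node [1, 84, 85] [.node [20, 64, 84, 104, 124] [.node [84, 1029, 1105, 1197, 1273] [.node [84, 1555, 1607, 1723, 1775] [.node [85, 256, 341] [.node [85, 1286, 1452] [.node [104, 1296,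 1400, 1452, 1476] [.node [1273, 1400, 1978] [.node [341, 1093, 1296, 1775, 1978] []]]]]]]],
   .node [20, 64, 84, 104, 124] [.node [84, 1300, 1344, 1468, 1512] [.node [84, 1340, 1384, 1428, 1472] [.node [85, 1323, 1492] [.node [104, 1280, 1384, 1468, 1492] []]]]]]]]]]]]]]]]]]]]]]]]]]]]]]]]]]]]]]]]]]]]]]]]]]]]]]]]]]]]]]]

/-- the fifth of the path is not outside -/
def treeJoin3 : Tree :=
  .node [1, 4, 5, 6, 7] [.node [1, 256, 257, 258, 259] [.node [1, 1024, 1025, 1026, 1027] [.node [1, 1280, 1281, 1282, 1283] [.node [1, 1344, 1345] [.node [320, 1024, 1344, 1664, 1984] [.node [4, 1344, 1348] [.node [65, 1281, 1344] [.node [257, 1089, 1344] [.node [258, 1344, 1601] [.node [321, 1025, 1344] [.node [1027, 1344, 1666] [.node [1282, 1344, 1475] [.node [1283, 1344, 1410] [.node [4, 256, 260] [.node [4, 321, 325] [.node [4, 1281, 1285] [.node [4, 1283, 1287] [.node [4, 1345, 1349] [.node [4, 1984, 1996] [.node [256, 1027, 1283, 1539, 1795] [.node [256, 1154, 1410, 1666, 1922] [.node [20, 256, 276] [.node [69,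 256, 325] [.node [256, 1029, 1285] [.node [256, 1092, 1348] [.node [256, 1093, 1349] [.node [256, 1228, 1996] [.node [65, 1024, 1089, 1154, 1219] [.node [257, 1024, 1281, 1538, 1795] [.node [451, 1024, 1475, 1601, 1922] [.node [20, 1024, 1044] [.node [276, 1024, 1300] [.node [64, 1283, 1475] [.node [69, 1283, 1417] [.node [1092, 1283, 1741] [.node [1228, 1283, 1862] [.node [1283, 1345, 1408] [.node [20, 451, 471] [.node [20, 1093, 1105] [.node [20, 1219, 1239] [.node [20, 1741, 1777] [.node [5, 1408, 1423] [.node [6, 1410, 1412, 1417, 1423] [.node [464, 1345, 1777] [.node [80, 1300, 1348] [.node [471, 1348, 1786] [.node [1239, 1348, 1590] [.node [1054, 1410, 1786] [.node [1410, 1590, 2030] [.node [104, 260, 464] [.node [260, 1044, 1296] [.node [260, 1054, 1810] [.node [260, 1273, 1777] [.node [80, 1287, 1447] [.node [1349, 1447, 1492] [.node [276, 1342, 1538] [.node [1, 84, 85] [.node [20, 64, 84, 104, 124] [.node [84, 1029, 1105, 1197, 1273] [.node [84, 1810, 1862, 1978, 2030] [.node [85, 256, 341]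 [.node [85, 1287, 1528] [.node [124, 1296, 1388, 1412, 1528] [.node [1197, 1388, 1775] [.node [341, 1093, 1296, 1775, 1978] []]]]]]]],
   .node [20, 64, 84, 104, 124] [.node [84, 1300, 1344, 1468, 1512] [.node [84, 1320, 1404, 1408, 1492] [.node [85, 1342, 1428] [.node [124, 1280, 1404, 1428, 1512] []]]]]]]]]]]]]]]]]]]]]]]]]]]]]]]]]]]]]]]]]]]]]]]]]]]]]]]]]]]]]]]

end CfsgLib.KnownB.TypeM24.Unique
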